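import Groth.Agent.H20.RelProj.ImmFam
import Groth.Agent.H41.ProjGen
import Groth.Agent.H18.ProjClosed

/-!
# A closed subscheme of `P^n_S` is the relative `Proj` of a quotient of the polynomial algebra (helper20)
-/

set_option autoImplicit false
set_option backward.isDefEq.respectTransparency false
universe u

open CategoryTheory CategoryTheory.Limits AlgebraicGeometry TopologicalSpace Opposite
open HomogeneousLocalization
open scoped HomogeneousIdeal

namespace Groth.Agent.H20.RelProj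

open Groth.Agent.H97.ProjChart Groth.Agent.H18

section projIso

variable {A B σ τ : Type u} [CommRing A] [SetLike σ A] [AddSubgroupClass σ A]
  [CommRing B] [SetLike τ B] [AddSubgroupClass τ B]
  {𝒜 : ℕ → σ} {ℬ : ℕ → τ} [GradedRing 𝒜] [GradedRing ℬ]

theorem irrelevant_le_map_of_rightInverse (φ : 𝒜 →+*ᵍ ℬ) (φ' : ℬ →+*ᵍ 𝒜)
    (h2 : ∀ b, φ (φ' b) = b) : ℬ₊ ≤ 𝒜₊.map φ := by
  rw [HomogeneousIdeal.irrelevant_le]
  intro i hi b hb
  change b ∈ Ideal.map φ (𝒜₊.toIdeal)
  rw [← h2 b]
  exact Ideal.mem_map_of_mem _ (HomogeneousIdeal.mem_irrelevant_of_mem 𝒜 hi (φ'.map_mem hb))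

theorem projMap_comp_eq_id (φ : 𝒜 →+*ᵍ ℬ) (φ' : ℬ →+*ᵍ 𝒜) (h1 : ∀ a, φ' (φ a) = a)
    (hφ : ℬ₊ ≤ 𝒜₊.map φ) (hφ' : 𝒜₊ ≤ ℬ₊.map φ') :
    Proj.map φ' hφ' ≫ Proj.map φ hφ = 𝟙 (Proj 𝒜) := by
  rw [← Proj.map_comp, ← Proj.map_id]
  exact projMap_congr' (GradedRingHom.ext h1) _ _

end projIso

section quot

variable {S : Scheme.{u}} {n : ℕ} (D : IdealFam S n)

/-- the quotient map as a graded ring homomorphism -/
noncomputable def quotHom (U : S.AffineZariskiSite) :
    CohB1.polyGrading n Γ(S, U.toOpens) →+*ᵍ G D U :=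
  quotGradedHom _ (D.hom U)

theorem quotHom_apply (U : S.AffineZariskiSite) (a : MvPolynomial (Fin (n + 1)) Γ(S, U.toOpens)) :
    quotHom D U a = Ideal.Quotient.mk (D.I U) a := rfl

theorem quotHom_surjective (U : S.AffineZariskiSite) : Function.Surjective (quotHom D U) :=
  Ideal.Quotient.mk_surjective

theorem irrelevant_le_quotHom (U : S.AffineZariskiSite) :
    (G D U)₊ ≤ (CohB1.polyGrading n Γ(S, U.toOpens))₊.map (quotHom D U) :=
  irrelevant_le_map_of_surjective (quotHom D U) (quotHom_surjective D U)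

instance isClosedImmersion_projMap_quotHom (U : S.AffineZariskiSite) :
    IsClosedImmersion (Proj.map (quotHom D U) (irrelevant_le_quotHom D U)) :=
  Groth.Agent.H41.ProjGen.isClosedImmersion_projMap_of_surjective _ (quotHom_surjective D U) _

variable (Us : S.AffineZariskiSite)

/-- `gam` as a graded ring homomorphism -/
noncomputable def gamGr : (qcGrAlg D).deg Us.toOpens Us.2 →+*ᵍ G D Us :=
  { toRingHom := (gam D Us.toOpens Us.2).toRingHom
    map_mem := fun hx => (mem_deg_iff D).mp hx }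

/-- the inverse of `gam` as a graded ring homomorphism -/
noncomputable def gamGrInv : G D Us →+*ᵍ (qcGrAlg D).deg Us.toOpens Us.2 :=
  { toRingHom := (gam D Us.toOpens Us.2).symm.toRingHom
    map_mem := fun {d x} hx => by
      rw [mem_deg_iff]
      change gam D Us.toOpens Us.2 ((gam D Us.toOpens Us.2).symm x) ∈ _
      rw [RingEquiv.apply_symm_apply]
      exact hx }

theorem gamGr_apply (a : (qcGrAlg D).presheaf.obj (op Us.toOpens)) :
    gamGr D Us a = gam D Us.toOpens Us.2 a := rfl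

theorem gamGrInv_apply (a : Q D Us) : gamGrInv D Us a = (gam D Us.toOpens Us.2).symm a := rfl

theorem irrelevant_le_gamGr :
    (G D Us)₊ ≤ ((qcGrAlg D).deg Us.toOpens Us.2)₊.map (gamGr D Us) :=
  irrelevant_le_map_of_rightInverse (gamGr D Us) (gamGrInv D Us)
    (fun b => (gam D Us.toOpens Us.2).apply_symm_apply b)

theorem irrelevant_le_gamGrInv :
    ((qcGrAlg D).deg Us.toOpens Us.2)₊ ≤ (G D Us)₊.map (gamGrInv D Us) :=
  irrelevant_le_map_of_rightInverse (gamGrInv D Us) (gamGr D Us)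
    (fun b => (gam D Us.toOpens Us.2).symm_apply_apply b)

/-- `Proj` of the quotient ring is `Proj` of the sections of the graded algebra -/
noncomputable def projGamIso : Proj (G D Us) ≅ Proj ((qcGrAlg D).deg Us.toOpens Us.2) where
  hom := Proj.map (gamGr D Us) (irrelevant_le_gamGr D Us)
  inv := Proj.map (gamGrInv D Us) (irrelevant_le_gamGrInv D Us)
  hom_inv_id := projMap_comp_eq_id (gamGrInv D Us) (gamGr D Us)
    (fun b => (gam D Us.toOpens Us.2).apply_symm_apply b) _ _
  inv_hom_id := projMap_comp_eq_id (gamGr D Us) (gamGrInv D Us)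
    (fun b => (gam D Us.toOpens Us.2).symm_apply_apply b) _ _

end quot

variable {X S : Scheme.{u}} {n : ℕ} (i : X ⟶ CohB1.ProjSpaceOver n S) [IsClosedImmersion i]

/-- the compatible family of homogeneous ideals cut out by `X` -/
noncomputable def idealFam : IdealFam S n where
  I U := famI i U.toOpens U.2
  hom U := famI_isHomogeneous i _ _
  res {U V} h a ha := mem_famI_res i U.2 V.2 (Scheme.AffineZariskiSite.toOpens_mono h) a ha
  sat U r g hg := exists_mem_famI i U.2 r g hg

section chart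

variable (U : S.Opens) (hU : IsAffineOpen U)

theorem range_snd_eq :
    Set.range (pullback.snd (psi n U hU) i) =
      Set.range ((i ≫ CohB1.ProjSpaceOver.toBase n S) ⁻¹ᵁ U).ι := by
  rw [Scheme.Pullback.range_snd, Scheme.Opens.range_ι]
  have h1 : Set.range (psi n U hU) = ((CohB1.ProjSpaceOver.toBase n S ⁻¹ᵁ U :
      (CohB1.ProjSpaceOver n S).Opens) : Set (CohB1.ProjSpaceOver n S)) := by
    rw [← opensRange_psi n U hU]
    rfl
  rw [h1]
  rfl

/-- `f⁻¹(U)` as the fibre product -/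
noncomputable def eZ : ((i ≫ CohB1.ProjSpaceOver.toBase n S) ⁻¹ᵁ U : Scheme.{u}) ≅
    pullback (psi n U hU) i :=
  IsOpenImmersion.isoOfRangeEq ((i ≫ CohB1.ProjSpaceOver.toBase n S) ⁻¹ᵁ U).ι
    (pullback.snd (psi n U hU) i) (range_snd_eq i U hU).symm

/-- the closed immersion `f⁻¹(U) ⟶ P^n_{Γ(S,U)}` -/
noncomputable def zU : ((i ≫ CohB1.ProjSpaceOver.toBase n S) ⁻¹ᵁ U : Scheme.{u}) ⟶
    CohB1.ProjSpace n Γ(S, U) :=
  (eZ i U hU).hom ≫ pullback.fst (psi n U hU) i

@[reassoc]
theorem zU_psi : zU i U hU ≫ psi n U hU = ((i ≫ CohB1.ProjSpaceOver.toBase n S) ⁻¹ᵁ U).ι ≫ i := by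
  unfold zU eZ
  rw [Category.assoc, pullback.condition, IsOpenImmersion.isoOfRangeEq_hom_fac_assoc]

instance : IsClosedImmersion (zU i U hU) := by
  unfold zU
  infer_instance

theorem ker_zU : (zU i U hU).ker = i.ker.comap (psi n U hU) := by
  unfold zU
  rw [Scheme.Hom.ker_comp_of_isIso]
  exact Scheme.IdealSheafData.ker_fst_of_isClosedImmersion i (psi n U hU)

/-- `zU` with target written as a `Proj` -/
noncomputable def zU' : ((i ≫ CohB1.ProjSpaceOver.toBase n S) ⁻¹ᵁ U : Scheme.{u}) ⟶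
    Proj (CohB1.polyGrading n Γ(S, U)) := zU i U hU

instance : IsClosedImmersion (zU' i U hU) := inferInstanceAs (IsClosedImmersion (zU i U hU))

theorem ker_zU' : (zU' i U hU).ker = idl i U hU := ker_zU i U hU

end chart

section chart2

variable (Us : S.AffineZariskiSite)

theorem ker_projMap_quotHom :
    (Proj.map (quotHom (idealFam i) Us) (irrelevant_le_quotHom (idealFam i) Us)).ker =
      idl i Us.toOpens Us.2 :=
  ker_projMap_quot_sectIdeal (CohB1.polyGrading n Γ(S, Us.toOpens)) (sX n Γ(S, Us.toOpens))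
    (sX_mem_one n Γ(S, Us.toOpens)) (irrelevant_eq_span n Γ(S, Us.toOpens)) (idl i Us.toOpens Us.2) _

/-- the chart `f⁻¹(U) ≅ Proj (Γ(S,U)[x] / I_U)` -/
noncomputable def cU : ((i ≫ CohB1.ProjSpaceOver.toBase n S) ⁻¹ᵁ Us.toOpens : Scheme.{u}) ≅
    Proj (G (idealFam i) Us) :=
  haveI : IsIso (IsClosedImmersion.lift
      (Proj.map (quotHom (idealFam i) Us) (irrelevant_le_quotHom (idealFam i) Us))
      (zU' i Us.toOpens Us.2) ((ker_projMap_quotHom i Us).trans (ker_zU' i Us.toOpens Us.2).symm).le) :=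
    IsClosedImmersion.isIso_lift _ _ ((ker_projMap_quotHom i Us).trans (ker_zU' i Us.toOpens Us.2).symm)
  asIso (IsClosedImmersion.lift
      (Proj.map (quotHom (idealFam i) Us) (irrelevant_le_quotHom (idealFam i) Us))
      (zU' i Us.toOpens Us.2) ((ker_projMap_quotHom i Us).trans (ker_zU' i Us.toOpens Us.2).symm).le)

@[reassoc]
theorem cU_hom_projMap :
    (cU i Us).hom ≫ Proj.map (quotHom (idealFam i) Us) (irrelevant_le_quotHom (idealFam i) Us) =
      zU' i Us.toOpens Us.2 :=
  IsClosedImmersion.lift_fac _ _ _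

/-- the chart `f⁻¹(U) ≅ Proj 𝒮(U)` -/
noncomputable def chartU : ((i ≫ CohB1.ProjSpaceOver.toBase n S) ⁻¹ᵁ Us.toOpens : Scheme.{u}) ≅
    Proj ((qcGrAlg (idealFam i)).deg Us.toOpens Us.2) :=
  cU i Us ≪≫ projGamIso (idealFam i) Us

end chart2

section primed

variable (n) (U : S.Opens) (hU : IsAffineOpen U)

/-- `psi` with source written as a `Proj` -/
noncomputable def psi' : Proj (CohB1.polyGrading n Γ(S, U)) ⟶ CohB1.ProjSpaceOver n S := psi n U hU

instance : IsOpenImmersion (psi' n U hU) := inferInstanceAs (IsOpenImmersion (psi n U hU))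

@[reassoc]
theorem psi'_toBase :
    psi' n U hU ≫ CohB1.ProjSpaceOver.toBase n S =
      Proj.toSpecZero (CohB1.polyGrading n Γ(S, U)) ≫
        Spec.map (CommRingCat.ofHom (algebraMap Γ(S, U) (CohB1.polyGrading n Γ(S, U) 0))) ≫
          hU.fromSpec :=
  (psi_toBase n U hU).trans (Category.assoc _ _ _)

variable {n}

@[reassoc]
theorem zU'_psi' :
    zU' i U hU ≫ psi' n U hU = ((i ≫ CohB1.ProjSpaceOver.toBase n S) ⁻¹ᵁ U).ι ≫ i :=
  zU_psi i U hU

theorem projMap_psi' {U V : S.Opens} (hU : IsAffineOpen U) (hV : IsAffineOpen V) (h : V ≤ U) :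
    letI := resAlgebra h
    Proj.map (gmap Γ(S, U) Γ(S, V) n) (irrelevant_le_map _ _ n) ≫ psi' n U hU = psi' n V hV :=
  projMap_psi n hU hV h

end primed

section rel

theorem map_irrelevant_le {A B σ τ : Type u} [CommRing A] [SetLike σ A] [AddSubgroupClass σ A]
    [CommRing B] [SetLike τ B] [AddSubgroupClass τ B]
    {𝒜 : ℕ → σ} {ℬ : ℕ → τ} [GradedRing 𝒜] [GradedRing ℬ] (f : 𝒜 →+*ᵍ ℬ) : 𝒜₊.map f ≤ ℬ₊ := by
  rw [HomogeneousIdeal.map_le_iff_le_comap, HomogeneousIdeal.irrelevant_le]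
  intro d hd x hx
  exact HomogeneousIdeal.mem_irrelevant_of_mem ℬ hd (f.map_mem hx)

variable (Us : S.AffineZariskiSite)

theorem chart_over_aux :
    (chartU i Us).hom ≫ Proj.toSpecZero ((qcGrAlg (idealFam i)).deg Us.toOpens Us.2) ≫
      Spec.map ((qcGrAlg (idealFam i)).strZero Us.toOpens Us.2) ≫ Us.2.fromSpec =
    ((i ≫ CohB1.ProjSpaceOver.toBase n S) ⁻¹ᵁ Us.toOpens).ι ≫ i ≫
      CohB1.ProjSpaceOver.toBase n S := by
  have hA := Groth.Agent.H41.ProjGen.map_toSpecZero (gamGr (idealFam i) Us)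
    (irrelevant_le_gamGr (idealFam i) Us)
  have hB := Groth.Agent.H41.ProjGen.map_toSpecZero (quotHom (idealFam i) Us)
    (irrelevant_le_quotHom (idealFam i) Us)
  have hC : (qcGrAlg (idealFam i)).strZero Us.toOpens Us.2 ≫
      CommRingCat.ofHom (gamGr (idealFam i) Us).gradedZeroRingHom =
      CommRingCat.ofHom (algebraMap Γ(S, Us.toOpens) (CohB1.polyGrading n Γ(S, Us.toOpens) 0)) ≫
        CommRingCat.ofHom (quotHom (idealFam i) Us).gradedZeroRingHom := by
    apply CommRingCat.hom_ext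
    refine RingHom.ext fun r => ?_
    apply Subtype.ext
    change gam (idealFam i) Us.toOpens Us.2
      (((qcGrAlg (idealFam i)).str.app (op Us.toOpens)).hom r) =
      Ideal.Quotient.mk _ (algebraMap Γ(S, Us.toOpens) (MvPolynomial (Fin (n + 1)) Γ(S, Us.toOpens)) r)
    rw [gam_str]
    rfl
  have hR : ((i ≫ CohB1.ProjSpaceOver.toBase n S) ⁻¹ᵁ Us.toOpens).ι ≫ i ≫
      CohB1.ProjSpaceOver.toBase n S =
      (cU i Us).hom ≫ Proj.map (quotHom (idealFam i) Us) (irrelevant_le_quotHom (idealFam i) Us) ≫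
        psi' n Us.toOpens Us.2 ≫ CohB1.ProjSpaceOver.toBase n S := by
    rw [← zU'_psi'_assoc, cU_hom_projMap_assoc]
  rw [hR, psi'_toBase, reassoc_of% hB]
  unfold chartU projGamIso
  simp only [Iso.trans_hom, Category.assoc]
  rw [reassoc_of% hA]
  congr 2
  rw [← Spec.map_comp_assoc, ← Spec.map_comp_assoc, hC]

section res

variable (D : IdealFam S n) {U V : S.AffineZariskiSite} (h : V ≤ U)

/-- `qRes` as a graded ring homomorphism -/
noncomputable def qResGr : G D U →+*ᵍ G D V :=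
  { toRingHom := qRes D h
    map_mem := fun hx => G_res D (homOfLE h) _ _ hx }

theorem qResGr_comp_quotHom :
    letI := resAlgebra (Scheme.AffineZariskiSite.toOpens_mono h)
    (qResGr D h).comp (quotHom D U) =
      (quotHom D V).comp (gmap Γ(S, U.toOpens) Γ(S, V.toOpens) n) := by
  letI := resAlgebra (Scheme.AffineZariskiSite.toOpens_mono h)
  apply GradedRingHom.ext
  intro a
  rfl

theorem irrelevant_le_qResGr : (G D V)₊ ≤ (G D U)₊.map (qResGr D h) := by
  letI := resAlgebra (Scheme.AffineZariskiSite.toOpens_mono h)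
  have h1 : (G D V)₊ ≤ (CohB1.polyGrading n Γ(S, U.toOpens))₊.map
      ((quotHom D V).comp (gmap Γ(S, U.toOpens) Γ(S, V.toOpens) n)) :=
    HomogeneousIdeal.irrelevant_le_map_comp (irrelevant_le_map _ _ n) (irrelevant_le_quotHom D V)
  rw [← qResGr_comp_quotHom D h, HomogeneousIdeal.map_comp] at h1
  exact h1.trans (HomogeneousIdeal.map_mono _ (map_irrelevant_le (quotHom D U)))

theorem projMap_qResGr_quotHom :
    letI := resAlgebra (Scheme.AffineZariskiSite.toOpens_mono h)
    Proj.map (qResGr D h) (irrelevant_le_qResGr D h) ≫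
      Proj.map (quotHom D U) (irrelevant_le_quotHom D U) =
    Proj.map (quotHom D V) (irrelevant_le_quotHom D V) ≫
      Proj.map (gmap Γ(S, U.toOpens) Γ(S, V.toOpens) n) (irrelevant_le_map _ _ n) := by
  letI := resAlgebra (Scheme.AffineZariskiSite.toOpens_mono h)
  rw [← Proj.map_comp, ← Proj.map_comp]
  exact projMap_congr' (qResGr_comp_quotHom D h) _ _

end res

variable (r : Γ(S, Us.toOpens))

theorem gamGr_comp_res :
    (gamGr (idealFam i) (Us.basicOpen r)).comp
      ((qcGrAlg (idealFam i)).res Us.2 (Us.2.basicOpen r) (S.basicOpen_le r)) =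
    (qResGr (idealFam i) (Us.basicOpen_le r)).comp (gamGr (idealFam i) Us) := by
  apply GradedRingHom.ext
  intro x
  exact gam_res (idealFam i) (Us.basicOpen_le r) x

theorem chart_res_aux :
    X.homOfLE ((i ≫ CohB1.ProjSpaceOver.toBase n S).preimage_mono (S.basicOpen_le r)) ≫
        (chartU i Us).hom =
      (chartU i (Us.basicOpen r)).hom ≫
        Proj.map ((qcGrAlg (idealFam i)).res Us.2 (Us.2.basicOpen r) (S.basicOpen_le r))
          ((qcGrAlg (idealFam i)).irrelevant_le_map Us.toOpens Us.2 r) := by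
  letI := resAlgebra (Scheme.AffineZariskiSite.toOpens_mono (Us.basicOpen_le r))
  have h1 : Proj.map (gamGr (idealFam i) (Us.basicOpen r))
        (irrelevant_le_gamGr (idealFam i) (Us.basicOpen r)) ≫
      Proj.map ((qcGrAlg (idealFam i)).res Us.2 (Us.2.basicOpen r) (S.basicOpen_le r))
        ((qcGrAlg (idealFam i)).irrelevant_le_map Us.toOpens Us.2 r) =
      Proj.map (qResGr (idealFam i) (Us.basicOpen_le r))
        (irrelevant_le_qResGr (idealFam i) (Us.basicOpen_le r)) ≫
      Proj.map (gamGr (idealFam i) Us) (irrelevant_le_gamGr (idealFam i) Us) := by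
    rw [← Proj.map_comp, ← Proj.map_comp]
    exact projMap_congr' (gamGr_comp_res i Us r) _ _
  unfold chartU projGamIso
  simp only [Iso.trans_hom, Category.assoc]
  rw [h1, ← Category.assoc, ← Category.assoc]
  congr 1
  rw [← cancel_mono (Proj.map (quotHom (idealFam i) Us) (irrelevant_le_quotHom (idealFam i) Us) ≫
    psi' n Us.toOpens Us.2)]
  simp only [Category.assoc]
  rw [cU_hom_projMap_assoc, zU'_psi', Scheme.homOfLE_ι_assoc,
    reassoc_of% (projMap_qResGr_quotHom (idealFam i) (Us.basicOpen_le r)),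
    projMap_psi' Us.2 (Us.basicOpen r).2 (Scheme.AffineZariskiSite.toOpens_mono (Us.basicOpen_le r)),
    cU_hom_projMap_assoc, zU'_psi']
  rfl

end rel

end Groth.Agent.H20.RelProj
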