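import Groth.Agent.H20.RelProj.ReesSheaf
import Groth.Agent.H20.RelProj.HProjChart
import Groth.Agent.H8.BlowUpExist
import Groth.Agent.H41.ProjGen

/-!
# Blow-ups followed by finite morphisms are relative homogeneous spectra (helper20)

For an affine morphism `f : X ⟶ Y`, an ideal sheaf `𝓘` on `X` and a blow-up `b : X' ⟶ X` of `𝓘`, the composite
`b ≫ f` is the relative `Proj` of the graded algebra `ReesSheaf.qcGrAlg f 𝓘` (charts and their compatibilities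
come from the universal property of blowing up).
-/

set_option autoImplicit false
set_option backward.isDefEq.respectTransparency false
universe u

open CategoryTheory CategoryTheory.Limits AlgebraicGeometry TopologicalSpace Opposite Polynomial
open scoped HomogeneousIdeal

namespace Groth.Agent.H20.RelProj.ReesSheaf

open Groth.Agent.H20.RelProj.ReesAlg Scheme.IdealSheafData

variable {X : Scheme.{u}} (𝓘 : X.IdealSheafData)

theorem comap_fromSpec (V : X.affineOpens) :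
    𝓘.comap V.2.fromSpec = Curv2.idealSheaf Γ(X, V.1) (𝓘.ideal V) := by
  apply Scheme.IdealSheafData.ext_of_isAffine
  have e : (⊤ : (Spec Γ(X, V.1)).Opens) ≤ V.2.fromSpec ⁻¹ᵁ V.1 := by
    rw [V.2.fromSpec_preimage_self]
  rw [Groth.Agent.H19.ComapAff.ideal_comap_appLE V.2.fromSpec 𝓘 V ⟨⊤, isAffineOpen_top _⟩ e]
  have h1 : (Curv2.idealSheaf Γ(X, V.1) (𝓘.ideal V)).ideal ⟨⊤, isAffineOpen_top _⟩ =
      (𝓘.ideal V).map (Scheme.ΓSpecIso Γ(X, V.1)).inv.hom :=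
    (equivOfIsAffine (X := Spec Γ(X, V.1))).right_inv _
  rw [h1]
  congr 2
  rw [Scheme.Hom.appLE, V.2.fromSpec_app_self, Category.assoc, ← Functor.map_comp]
  rw [show ((eqToHom V.2.fromSpec_preimage_self).op ≫ (homOfLE e).op :
      op (⊤ : (Spec Γ(X, V.1)).Opens) ⟶ op ⊤) = 𝟙 _ from Subsingleton.elim _ _,
    (Spec Γ(X, V.1)).presheaf.map_id, Category.comp_id]

/-- `t : T ⟶ X` is a blow-up of `𝓘` over the open `V` of `X` -/
structure IsLocBl (V : X.Opens) {T : Scheme.{u}} (t : T ⟶ X) : Prop where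
  range_le : Set.range t ⊆ V
  cartier : BlowUp.IsEffCartierIdeal (𝓘.comap t)
  lift : ∀ (T' : Scheme.{u}) (g : T' ⟶ X), Set.range g ⊆ V →
    BlowUp.IsEffCartierIdeal (𝓘.comap g) → ∃! h : T' ⟶ T, h ≫ t = g

variable {𝓘}

theorem IsLocBl.hom_ext {V : X.Opens} {T : Scheme.{u}} {t : T ⟶ X} (ht : IsLocBl 𝓘 V t)
    {T' : Scheme.{u}} (h₁ h₂ : T' ⟶ T) (hc : BlowUp.IsEffCartierIdeal (𝓘.comap (h₁ ≫ t)))
    (e : h₁ ≫ t = h₂ ≫ t) : h₁ = h₂ := by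
  have hr : Set.range (h₁ ≫ t) ⊆ V := by
    rintro _ ⟨x, rfl⟩
    exact ht.range_le ⟨h₁ x, rfl⟩
  exact (ht.lift T' (h₁ ≫ t) hr hc).unique rfl e.symm

theorem IsLocBl.iso {V : X.Opens} {T₁ T₂ : Scheme.{u}} {t₁ : T₁ ⟶ X} {t₂ : T₂ ⟶ X}
    (h₁ : IsLocBl 𝓘 V t₁) (h₂ : IsLocBl 𝓘 V t₂) : ∃ e : T₁ ≅ T₂, e.hom ≫ t₂ = t₁ := by
  obtain ⟨a, ha, -⟩ := h₂.lift T₁ t₁ h₁.range_le h₁.cartier
  obtain ⟨b, hb, -⟩ := h₁.lift T₂ t₂ h₂.range_le h₂.cartier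
  refine ⟨⟨a, b, ?_, ?_⟩, ha⟩
  · apply h₁.hom_ext
    · rw [Category.assoc, hb, ha]; exact h₁.cartier
    · rw [Category.assoc, hb, ha, Category.id_comp]
  · apply h₂.hom_ext
    · rw [Category.assoc, ha, hb]; exact h₂.cartier
    · rw [Category.assoc, ha, hb, Category.id_comp]

variable (𝓘)

/-- the local blow-up `Proj R(𝓘(V)) ⟶ X` over an affine open `V` -/
noncomputable def q (V : X.affineOpens) : Proj (Rees.deg (reesAlgebra (𝓘.ideal V))) ⟶ X :=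
  Groth.Agent.H8.ReesProj.π (𝓘.ideal V) ≫ V.2.fromSpec

theorem isLocBl_q (V : X.affineOpens) : IsLocBl 𝓘 V.1 (q 𝓘 V) := by
  have hπ : BlowUp.IsBlowUp (Groth.Agent.H8.ReesProj.π (𝓘.ideal V))
      (Curv2.idealSheaf Γ(X, V.1) (𝓘.ideal V)) :=
    Groth.Agent.S16054.result Γ(X, V.1) (𝓘.ideal V)
  refine ⟨?_, ?_, ?_⟩
  · rintro _ ⟨x, rfl⟩
    rw [← V.2.range_fromSpec]
    exact ⟨_, rfl⟩
  · unfold q
    rw [comap_comp, comap_fromSpec]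
    exact hπ.1
  · intro T' g hg hc
    haveI : IsOpenImmersion V.2.fromSpec := IsAffineOpen.isOpenImmersion_fromSpec V.2
    have hr : Set.range g ⊆ Set.range V.2.fromSpec := by
      rw [V.2.range_fromSpec]; exact hg
    let g₀ : T' ⟶ Spec Γ(X, V.1) := IsOpenImmersion.lift V.2.fromSpec g hr
    have hg₀ : g₀ ≫ V.2.fromSpec = g := IsOpenImmersion.lift_fac _ _ _
    have hc₀ : BlowUp.IsEffCartierIdeal ((Curv2.idealSheaf Γ(X, V.1) (𝓘.ideal V)).comap g₀) := by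
      rw [← comap_fromSpec, ← comap_comp, hg₀]
      exact hc
    obtain ⟨h, hh, hu⟩ := hπ.2 T' g₀ hc₀
    refine ⟨h, ?_, ?_⟩
    · change h ≫ _ ≫ _ = g
      rw [← Category.assoc, hh, hg₀]
    · intro h' hh'
      apply hu
      rw [← cancel_mono V.2.fromSpec, hg₀, Category.assoc]
      exact hh'

theorem isLocBl_restrict {X' : Scheme.{u}} (b : X' ⟶ X) (hb : BlowUp.IsBlowUp b 𝓘) (V : X.Opens) :
    IsLocBl 𝓘 V ((b ⁻¹ᵁ V).ι ≫ b) := by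
  refine ⟨?_, ?_, ?_⟩
  · rintro _ ⟨x, rfl⟩
    exact x.2
  · rw [comap_comp]
    exact Groth.Agent.S1680.isEffCartier_comap_of_flat _ hb.1
  · intro T' g hg hc
    obtain ⟨h, hh, hu⟩ := hb.2 T' g hc
    have hr : Set.range h ⊆ Set.range (b ⁻¹ᵁ V).ι := by
      rw [Scheme.Opens.range_ι]
      rintro _ ⟨x, rfl⟩
      change b (h x) ∈ V
      rw [← Scheme.Hom.comp_apply, hh]
      exact hg ⟨x, rfl⟩
    refine ⟨IsOpenImmersion.lift (b ⁻¹ᵁ V).ι h hr, ?_, ?_⟩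
    · change _ ≫ _ ≫ _ = g
      rw [← Category.assoc, IsOpenImmersion.lift_fac, hh]
    · intro h' hh'
      rw [← cancel_mono (b ⁻¹ᵁ V).ι, IsOpenImmersion.lift_fac]
      apply hu
      rw [Category.assoc]
      exact hh'



section rel


variable {X Y X' : Scheme.{u}} (f : X ⟶ Y) [IsAffineHom f] (𝓘 : X.IdealSheafData)
  (b : X' ⟶ X) (hb : BlowUp.IsBlowUp b 𝓘) (Us : Y.AffineZariskiSite)

/-- `gam` as a graded ring homomorphism -/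
noncomputable def gamGr : (qcGrAlg f 𝓘).deg Us.toOpens Us.2 →+*ᵍ G f 𝓘 Us :=
  { toRingHom := (gam f 𝓘 Us.toOpens Us.2).toRingHom
    map_mem := fun hx => (mem_deg_iff f 𝓘).mp hx }

/-- the inverse of `gam` as a graded ring homomorphism -/
noncomputable def gamGrInv : G f 𝓘 Us →+*ᵍ (qcGrAlg f 𝓘).deg Us.toOpens Us.2 :=
  { toRingHom := (gam f 𝓘 Us.toOpens Us.2).symm.toRingHom
    map_mem := fun {d x} hx => by
      rw [mem_deg_iff]
      change gam f 𝓘 Us.toOpens Us.2 ((gam f 𝓘 Us.toOpens Us.2).symm x) ∈ _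
      rw [RingEquiv.apply_symm_apply]
      exact hx }

theorem irrelevant_le_gamGr :
    (G f 𝓘 Us)₊ ≤ ((qcGrAlg f 𝓘).deg Us.toOpens Us.2)₊.map (gamGr f 𝓘 Us) :=
  irrelevant_le_map_of_rightInverse (gamGr f 𝓘 Us) (gamGrInv f 𝓘 Us)
    (fun b => (gam f 𝓘 Us.toOpens Us.2).apply_symm_apply b)

theorem irrelevant_le_gamGrInv :
    ((qcGrAlg f 𝓘).deg Us.toOpens Us.2)₊ ≤ (G f 𝓘 Us)₊.map (gamGrInv f 𝓘 Us) :=
  irrelevant_le_map_of_rightInverse (gamGrInv f 𝓘 Us) (gamGr f 𝓘 Us)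
    (fun b => (gam f 𝓘 Us.toOpens Us.2).symm_apply_apply b)

/-- `Proj` of the Rees algebra is `Proj` of the sections of the graded algebra -/
noncomputable def projGamIso : Proj (G f 𝓘 Us) ≅ Proj ((qcGrAlg f 𝓘).deg Us.toOpens Us.2) where
  hom := Proj.map (gamGr f 𝓘 Us) (irrelevant_le_gamGr f 𝓘 Us)
  inv := Proj.map (gamGrInv f 𝓘 Us) (irrelevant_le_gamGrInv f 𝓘 Us)
  hom_inv_id := projMap_comp_eq_id (gamGrInv f 𝓘 Us) (gamGr f 𝓘 Us)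
    (fun b => (gam f 𝓘 Us.toOpens Us.2).apply_symm_apply b) _ _
  inv_hom_id := projMap_comp_eq_id (gamGr f 𝓘 Us) (gamGrInv f 𝓘 Us)
    (fun b => (gam f 𝓘 Us.toOpens Us.2).symm_apply_apply b) _ _

include hb in
theorem isLocBl_pre : IsLocBl 𝓘 (f ⁻¹ᵁ Us.toOpens) (((b ≫ f) ⁻¹ᵁ Us.toOpens).ι ≫ b) :=
  isLocBl_restrict 𝓘 b hb (f ⁻¹ᵁ Us.toOpens)

include hb in
theorem exists_cU : ∃ e : (((b ≫ f) ⁻¹ᵁ Us.toOpens : X'.Opens) : Scheme.{u}) ≅ Proj (G f 𝓘 Us),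
    e.hom ≫ q 𝓘 (pre f Us) = ((b ≫ f) ⁻¹ᵁ Us.toOpens).ι ≫ b :=
  (isLocBl_pre f 𝓘 b hb Us).iso (isLocBl_q 𝓘 (pre f Us))

/-- the chart `(b ≫ f)⁻¹(U) ≅ Proj R(𝓘(f⁻¹ U))` -/
noncomputable def cU : (((b ≫ f) ⁻¹ᵁ Us.toOpens : X'.Opens) : Scheme.{u}) ≅ Proj (G f 𝓘 Us) :=
  (exists_cU f 𝓘 b hb Us).choose

@[reassoc]
theorem cU_hom_q : (cU f 𝓘 b hb Us).hom ≫ q 𝓘 (pre f Us) = ((b ≫ f) ⁻¹ᵁ Us.toOpens).ι ≫ b :=
  (exists_cU f 𝓘 b hb Us).choose_spec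

/-- the chart `(b ≫ f)⁻¹(U) ≅ Proj 𝒮(U)` -/
noncomputable def chartU : (((b ≫ f) ⁻¹ᵁ Us.toOpens : X'.Opens) : Scheme.{u}) ≅
    Proj ((qcGrAlg f 𝓘).deg Us.toOpens Us.2) :=
  cU f 𝓘 b hb Us ≪≫ projGamIso f 𝓘 Us

theorem q_comp (V : X.affineOpens) {U : Y.Opens} (hU : IsAffineOpen U) (e : V.1 ≤ f ⁻¹ᵁ U) :
    q 𝓘 V ≫ f = Proj.toSpecZero (Rees.deg (reesAlgebra (𝓘.ideal V))) ≫
      Spec.map (CommRingCat.ofHom (algebraMap Γ(X, V.1) (Rees.deg (reesAlgebra (𝓘.ideal V)) 0))) ≫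
      Spec.map (f.appLE U V.1 e) ≫ hU.fromSpec := by
  unfold q
  rw [IsAffineOpen.SpecMap_appLE_fromSpec f hU V.2 e]
  simp only [Category.assoc]

theorem chart_over_aux :
    (chartU f 𝓘 b hb Us).hom ≫ Proj.toSpecZero ((qcGrAlg f 𝓘).deg Us.toOpens Us.2) ≫
      Spec.map ((qcGrAlg f 𝓘).strZero Us.toOpens Us.2) ≫ Us.2.fromSpec =
    ((b ≫ f) ⁻¹ᵁ Us.toOpens).ι ≫ b ≫ f := by
  have hA := Groth.Agent.H41.ProjGen.map_toSpecZero (gamGr f 𝓘 Us) (irrelevant_le_gamGr f 𝓘 Us)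
  have hC : (qcGrAlg f 𝓘).strZero Us.toOpens Us.2 ≫
      CommRingCat.ofHom (gamGr f 𝓘 Us).gradedZeroRingHom =
      f.appLE Us.toOpens (f ⁻¹ᵁ Us.toOpens) le_rfl ≫
        (CommRingCat.ofHom (algebraMap Γ(X, f ⁻¹ᵁ Us.toOpens) (G f 𝓘 Us 0)) :
          Γ(X, f ⁻¹ᵁ Us.toOpens) ⟶ CommRingCat.of (G f 𝓘 Us 0)) := by
    apply CommRingCat.hom_ext
    refine RingHom.ext fun r => ?_
    apply Subtype.ext
    change gam f 𝓘 Us.toOpens Us.2 (((qcGrAlg f 𝓘).str.app (op Us.toOpens)).hom r) = _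
    rw [gam_str, ← Scheme.Hom.app_eq_appLE]
    rfl
  rw [← cU_hom_q_assoc f 𝓘 b hb Us, q_comp f 𝓘 (pre f Us) Us.2 le_rfl]
  unfold chartU projGamIso
  simp only [Iso.trans_hom, Category.assoc]
  rw [reassoc_of% hA]
  congr 2
  rw [← Spec.map_comp_assoc, ← Spec.map_comp_assoc, hC]

section res

variable {U V : Y.AffineZariskiSite} (h : V ≤ U)

/-- `rRes` as a graded ring homomorphism -/
noncomputable def rResGr : G f 𝓘 U →+*ᵍ G f 𝓘 V :=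
  { toRingHom := rRes f 𝓘 h
    map_mem := fun hx => G_res f 𝓘 (homOfLE h) _ _ hx }

theorem irrelevant_le_rResGr : (G f 𝓘 V)₊ ≤ (G f 𝓘 U)₊.map (rResGr f 𝓘 h) := by
  rw [HomogeneousIdeal.irrelevant_le]
  intro d hd x hx
  exact ReesAlg.mem_map_irrelevant (ρ f h) (I f 𝓘 U) (I f 𝓘 V) (I_le f 𝓘 h) (I_map f 𝓘 h) hd hx

theorem projMap_rResGr_q :
    Proj.map (rResGr f 𝓘 h) (irrelevant_le_rResGr f 𝓘 h) ≫ q 𝓘 (pre f U) = q 𝓘 (pre f V) := by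
  have hA := Groth.Agent.H41.ProjGen.map_toSpecZero (rResGr f 𝓘 h) (irrelevant_le_rResGr f 𝓘 h)
  have hC : (CommRingCat.ofHom (algebraMap Γ(X, f ⁻¹ᵁ U.toOpens) (G f 𝓘 U 0)) :
        Γ(X, f ⁻¹ᵁ U.toOpens) ⟶ CommRingCat.of (G f 𝓘 U 0)) ≫
      CommRingCat.ofHom (rResGr f 𝓘 h).gradedZeroRingHom =
      X.presheaf.map (homOfLE (pre_le f h)).op ≫
        (CommRingCat.ofHom (algebraMap Γ(X, f ⁻¹ᵁ V.toOpens) (G f 𝓘 V 0)) :
          Γ(X, f ⁻¹ᵁ V.toOpens) ⟶ CommRingCat.of (G f 𝓘 V 0)) := by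
    apply CommRingCat.hom_ext
    refine RingHom.ext fun a => ?_
    apply Subtype.ext
    exact ReesAlg.reesMap_algebraMap (ρ f h) (I f 𝓘 U) (I f 𝓘 V) (I_le f 𝓘 h) a
  unfold q Groth.Agent.H8.ReesProj.π
  simp only [Category.assoc]
  rw [reassoc_of% hA, ← Spec.map_comp_assoc, hC, Spec.map_comp_assoc,
    IsAffineOpen.map_fromSpec (pre f U).2 (pre f V).2]

end res

variable (r : Γ(Y, Us.toOpens))

theorem gamGr_comp_res :
    (gamGr f 𝓘 (Us.basicOpen r)).comp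
      ((qcGrAlg f 𝓘).res Us.2 (Us.2.basicOpen r) (Y.basicOpen_le r)) =
    (rResGr f 𝓘 (Us.basicOpen_le r)).comp (gamGr f 𝓘 Us) := by
  apply GradedRingHom.ext
  intro x
  exact gam_res f 𝓘 (Us.basicOpen_le r) x

theorem chart_res_aux :
    X'.homOfLE ((b ≫ f).preimage_mono (Y.basicOpen_le r)) ≫ (chartU f 𝓘 b hb Us).hom =
      (chartU f 𝓘 b hb (Us.basicOpen r)).hom ≫
        Proj.map ((qcGrAlg f 𝓘).res Us.2 (Us.2.basicOpen r) (Y.basicOpen_le r))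
          ((qcGrAlg f 𝓘).irrelevant_le_map Us.toOpens Us.2 r) := by
  have h1 : Proj.map (gamGr f 𝓘 (Us.basicOpen r)) (irrelevant_le_gamGr f 𝓘 (Us.basicOpen r)) ≫
      Proj.map ((qcGrAlg f 𝓘).res Us.2 (Us.2.basicOpen r) (Y.basicOpen_le r))
        ((qcGrAlg f 𝓘).irrelevant_le_map Us.toOpens Us.2 r) =
      Proj.map (rResGr f 𝓘 (Us.basicOpen_le r)) (irrelevant_le_rResGr f 𝓘 (Us.basicOpen_le r)) ≫
      Proj.map (gamGr f 𝓘 Us) (irrelevant_le_gamGr f 𝓘 Us) := by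
    rw [← Proj.map_comp, ← Proj.map_comp]
    exact projMap_congr' (gamGr_comp_res f 𝓘 Us r) _ _
  unfold chartU projGamIso
  simp only [Iso.trans_hom, Category.assoc]
  rw [h1, ← Category.assoc, ← Category.assoc]
  congr 1
  apply (isLocBl_q 𝓘 (pre f Us)).hom_ext
  · rw [Category.assoc, cU_hom_q, Scheme.homOfLE_ι_assoc]
    exact (isLocBl_pre f 𝓘 b hb (Us.basicOpen r)).cartier
  · rw [Category.assoc, cU_hom_q, Scheme.homOfLE_ι_assoc, Category.assoc,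
      projMap_rResGr_q f 𝓘 (Us.basicOpen_le r), cU_hom_q]
    rfl

end rel

/-- A blow-up in an ideal of finite type followed by a finite morphism is projective. -/
theorem isProjective_comp_of_isBlowUp {X Y X' : Scheme.{u}} (f : X ⟶ Y) [IsFinite f]
    (𝓘 : X.IdealSheafData) (h𝓘 : BlowUp.IsFiniteTypeIdeal 𝓘) (b : X' ⟶ X)
    (hb : BlowUp.IsBlowUp b 𝓘) : RelProj.IsProjective (b ≫ f) := by
  refine ⟨qcGrAlg f 𝓘, X', b ≫ f, fun U hU => chartU f 𝓘 b hb ⟨U, hU⟩, Iso.refl X',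
    isGenDegOne f 𝓘, isFTDeg_one f 𝓘 h𝓘, ?_, Category.id_comp _⟩
  exact ⟨fun U hU => chart_over_aux f 𝓘 b hb ⟨U, hU⟩,
    fun U hU r => chart_res_aux f 𝓘 b hb ⟨U, hU⟩ r⟩

/-- the identity is a blow-up of the unit ideal -/
theorem isBlowUp_id_top (X : Scheme.{u}) : BlowUp.IsBlowUp (𝟙 X) (⊤ : X.IdealSheafData) := by
  have h1 : BlowUp.IsEffCartierIdeal (⊤ : X.IdealSheafData) := by
    intro x
    obtain ⟨_, ⟨U, hU, rfl⟩, hxU, -⟩ :=
      X.isBasis_affineOpens.exists_subset_of_mem_open (Set.mem_univ x) isOpen_univ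
    refine ⟨⟨U, hU⟩, hxU, 1, one_mem _, ?_⟩
    rw [Ideal.span_singleton_one]
    rfl
  refine ⟨?_, fun T g _ => ⟨g, Category.comp_id g, fun h hh => ?_⟩⟩
  · rw [Scheme.IdealSheafData.comap_id]
    exact h1
  · rw [← hh, Category.comp_id]

/-- A finite morphism is projective. -/
theorem isProjective_of_isFinite {X Y : Scheme.{u}} (f : X ⟶ Y) [IsFinite f] :
    RelProj.IsProjective f := by
  have h := isProjective_comp_of_isBlowUp f ⊤ (fun U => ⟨{1}, by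
    rw [Finset.coe_singleton, Ideal.span_singleton_one]; rfl⟩) (𝟙 X) (isBlowUp_id_top X)
  rwa [Category.id_comp] at h

end Groth.Agent.H20.RelProj.ReesSheaf
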