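import Groth.Agent.H20.RelProj.QuotPoly
import Groth.Agent.H18.ProjIdeal
import Groth.Agent.H97.ProjChartBC

/-!
# Degree-zero localisations of polynomial rings and localisation of the base (helper20)
-/

set_option autoImplicit false
universe u

open HomogeneousLocalization DirectSum

namespace Groth.Agent.H20.RelProj

open Groth.Agent.H18 Groth.Agent.H97.ProjChart

section general

variable {R A R' B : Type u} [CommRing R] [CommRing A] [Algebra R A] [CommRing R'] [CommRing B]
  [Algebra R' B] {𝒜 : ℕ → Submodule R A} [GradedAlgebra 𝒜] {ℬ : ℕ → Submodule R' B} [GradedAlgebra ℬ]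

theorem awayMap_dfrac (φ : 𝒜 →+*ᵍ ℬ) {f : A} (hf : f ∈ 𝒜 1) (d : ℕ) (a : A) :
    Away.map φ f (dfrac 𝒜 hf d a) = dfrac ℬ (φ.map_mem hf) d (φ a) := by
  unfold dfrac
  rw [Away.map_mk]
  congr 1
  exact GradedRingHom.map_directSumDecompose _ _ φ

end general

section poly

variable (k R : Type u) [CommRing k] [CommRing R] [Algebra k R] (n : ℕ)

theorem gmap_decompose (a : MvPolynomial (Fin (n + 1)) k) (d : ℕ) :
    gmap k R n (DirectSum.decompose (CohB1.polyGrading n k) a d : MvPolynomial (Fin (n + 1)) k) =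
      (DirectSum.decompose (CohB1.polyGrading n R) (gmap k R n a) d : MvPolynomial (Fin (n + 1)) R) :=
  GradedRingHom.map_directSumDecompose _ _ (gmap k R n)

variable {k n}

theorem C_mem_zero (c : k) : (MvPolynomial.C c : MvPolynomial (Fin (n + 1)) k) ∈ CohB1.polyGrading n k 0 :=
  MvPolynomial.isHomogeneous_C _ c

theorem C_pow_mul_mem {d : ℕ} {g : MvPolynomial (Fin (n + 1)) k} (hg : g ∈ CohB1.polyGrading n k d)
    (c : k) (N : ℕ) : MvPolynomial.C c ^ N * g ∈ CohB1.polyGrading n k d := by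
  have h1 : (MvPolynomial.C c ^ N : MvPolynomial (Fin (n + 1)) k) ∈ CohB1.polyGrading n k 0 := by
    rw [← map_pow]
    exact C_mem_zero _
  have := SetLike.mul_mem_graded h1 hg
  rwa [zero_add] at this

/-- the constant `r` as an element of the degree-zero localisation -/
noncomputable def cstAway {f : MvPolynomial (Fin (n + 1)) k} (hf : f ∈ CohB1.polyGrading n k 1)
    (r : k) : Away (CohB1.polyGrading n k) f :=
  dfrac (CohB1.polyGrading n k) hf 0 (MvPolynomial.C r)

theorem cstAway_pow_mul_dfrac {f : MvPolynomial (Fin (n + 1)) k} (hf : f ∈ CohB1.polyGrading n k 1)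
    (r : k) (N d : ℕ) (a : MvPolynomial (Fin (n + 1)) k) :
    cstAway hf r ^ N * dfrac (CohB1.polyGrading n k) hf d a =
      dfrac (CohB1.polyGrading n k) hf d (MvPolynomial.C r ^ N * a) := by
  induction N with
  | zero => rw [pow_zero, pow_zero, one_mul, one_mul]
  | succ N ih =>
    rw [pow_succ', mul_assoc, ih, pow_succ', mul_assoc,
      dfrac_mul_of_mem_of_le hf (C_mem_zero r) _ (Nat.zero_le d), Nat.sub_zero]
    rfl

theorem isLocalization_awayMap (r : k) [IsLocalization.Away r R]
    {f : MvPolynomial (Fin (n + 1)) k} (hf : f ∈ CohB1.polyGrading n k 1) :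
    letI := (Away.map (gmap k R n) f).toAlgebra
    IsLocalization.Away (cstAway hf r) (Away (CohB1.polyGrading n R) (gmap k R n f)) := by
  letI := (Away.map (gmap k R n) f).toAlgebra
  have hf' : gmap k R n f ∈ CohB1.polyGrading n R 1 := (gmap k R n).map_mem hf
  have halg : ∀ x, algebraMap (Away (CohB1.polyGrading n k) f)
      (Away (CohB1.polyGrading n R) (gmap k R n f)) x = Away.map (gmap k R n) f x := fun _ => rfl
  have hc : Away.map (gmap k R n) f (cstAway hf r) = cstAway hf' (algebraMap k R r) := by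
    unfold cstAway
    rw [awayMap_dfrac, gmap_C]
  refine IsLocalization.Away.mk _ ?_ ?_ ?_
  · rw [halg, hc]
    obtain ⟨u, hu⟩ := IsLocalization.Away.algebraMap_isUnit (S := R) r
    refine IsUnit.of_mul_eq_one (cstAway hf' (↑u⁻¹ : R)) ?_
    unfold cstAway
    rw [← dfrac_mul_of_mem_of_le hf' (C_mem_zero _) _ (Nat.zero_le 0), ← map_mul, ← hu,
      Units.mul_inv, map_one]
    rw [dfrac_of_mem hf' (SetLike.GradedOne.one_mem)]
    ext
    rw [Away.val_mk, val_one]
    simp only [pow_zero]
    exact Localization.mk_one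
  · intro y
    obtain ⟨d, g, hg, rfl⟩ := Away.mk_surjective _ hf' y
    have hg' : g ∈ CohB1.polyGrading n R d := by rwa [smul_eq_mul, mul_one] at hg
    obtain ⟨N, g', hg'eq⟩ := exists_map_eq_C_pow_mul r g
    refine ⟨N, dfrac _ hf d g', ?_⟩
    rw [halg, halg, hc, awayMap_dfrac, ← dfrac_of_mem hf' hg', mul_comm, cstAway_pow_mul_dfrac]
    exact congrArg (dfrac _ hf' d) (by rw [gmap_apply, hg'eq])
  · suffices hz : ∀ x : Away (CohB1.polyGrading n k) f, Away.map (gmap k R n) f x = 0 →
        ∃ N : ℕ, cstAway hf r ^ N * x = 0 by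
      intro a b hab
      obtain ⟨N, hN⟩ := hz (a - b) (by rw [map_sub, sub_eq_zero]; exact hab)
      exact ⟨N, by rwa [mul_sub, sub_eq_zero] at hN⟩
    intro x hx
    obtain ⟨d, g, hg, rfl⟩ := Away.mk_surjective _ hf x
    have hg' : g ∈ CohB1.polyGrading n k d := by rwa [smul_eq_mul, mul_one] at hg
    rw [Away.map_mk, away_mk_eq_zero_iff] at hx
    obtain ⟨m, hm⟩ := hx
    rw [← map_pow, ← map_mul, gmap_apply] at hm
    obtain ⟨M, hM⟩ := exists_C_pow_mul_eq_zero r _ hm
    refine ⟨M, ?_⟩
    rw [← dfrac_of_mem hf hg', cstAway_pow_mul_dfrac, dfrac_of_mem hf (C_pow_mul_mem hg' r M),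
      away_mk_eq_zero_iff]
    refine ⟨m, ?_⟩
    rw [← hM, map_pow]
    ring

end poly

end Groth.Agent.H20.RelProj
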