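import Mathlib
import Groth.Agent.H18.ProjClosed

/-!
# Chart ideals of a pulled-back ideal sheaf along an open immersion `Proj ℬ ⟶ Proj 𝒜` (helper20)
-/

set_option autoImplicit false
universe u

open HomogeneousLocalization DirectSum AlgebraicGeometry CategoryTheory

namespace Groth.Agent.H20.RelProj

open Groth.Agent.H18

variable {R A R' B : Type u} [CommRing R] [CommRing A] [Algebra R A] [CommRing R'] [CommRing B]
  [Algebra R' B] (𝒜 : ℕ → Submodule R A) [GradedAlgebra 𝒜] (ℬ : ℕ → Submodule R' B) [GradedAlgebra ℬ]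

theorem chartIdeal_comap (φ : 𝒜 →+*ᵍ ℬ)
    (hφ : HomogeneousIdeal.irrelevant ℬ ≤ (HomogeneousIdeal.irrelevant 𝒜).map φ)
    [IsOpenImmersion (Proj.map φ hφ)] (ℐ : (Proj 𝒜).IdealSheafData) {f : A} (hf : f ∈ 𝒜 1) :
    chartIdeal ℬ (ℐ.comap (Proj.map φ hφ)) (φ f) = (chartIdeal 𝒜 ℐ f).map (Away.map φ f) := by
  have hf' : φ f ∈ ℬ 1 := φ.map_mem hf
  set q := Proj.map φ hφ with hq
  have hle : q ''ᵁ (dplus ℬ hf').1 ≤ (dplus 𝒜 hf).1 := by
    rintro _ ⟨x, hx, rfl⟩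
    exact hx
  rw [chartIdeal_of_mem ℬ _ hf', chartIdeal_of_mem 𝒜 ℐ hf,
    Scheme.IdealSheafData.ideal_comap_of_isOpenImmersion ℐ q (dplus ℬ hf'),
    ← ℐ.map_ideal (U := ⟨q ''ᵁ (dplus ℬ hf').1, (dplus ℬ hf').2.image_of_isOpenImmersion q⟩)
      (V := dplus 𝒜 hf) hle, Ideal.comap_comap]
  symm
  refine map_comap_eq_comap_map (Proj.awayToSection 𝒜 f).hom _ (Away.map φ f) _ ?_
    (awayToSection_bijective 𝒜 hf one_pos).2 ?_ (ℐ.ideal (dplus 𝒜 hf))
  · have h1 := Proj.awayToSection_comp_appLE φ hφ hf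
    have h2 : q.appLE (Proj.basicOpen 𝒜 f) (Proj.basicOpen ℬ (φ f)) (by rfl) =
        (Proj 𝒜).presheaf.map (homOfLE hle).op ≫ (q.appIso (dplus ℬ hf').1).hom := by
      rw [Scheme.Hom.appIso_hom', Scheme.Hom.map_appLE]
    rw [h2] at h1
    have h3 : CommRingCat.ofHom (Away.map φ f) ≫ Proj.awayToSection ℬ (φ f) ≫
        (q.appIso (dplus ℬ hf').1).inv =
        Proj.awayToSection 𝒜 f ≫ (Proj 𝒜).presheaf.map (homOfLE hle).op := by
      rw [← Category.assoc, ← h1, Category.assoc, Category.assoc, Iso.hom_inv_id, Category.comp_id]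
    exact congrArg CommRingCat.Hom.hom h3
  · exact (ConcreteCategory.bijective_of_isIso (q.appIso (dplus ℬ hf').1).inv).comp
      (awayToSection_bijective ℬ hf' one_pos)

end Groth.Agent.H20.RelProj
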