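import Groth.Agent.S9717
import Groth.Agent.S4418
import Groth.Agent.H20.HProj
import Groth.Agent.H20.Chow.DenseRed
import Groth.Agent.H18.VA.LocalQP

/-!
# From Chow's lemma (immersion into `P^n_S`) to projective / quasi-projective morphisms (helper20)
-/

set_option autoImplicit false
universe u
open CategoryTheory CategoryTheory.Limits AlgebraicGeometry TopologicalSpace

namespace Groth.Agent.H20.RelProj

open Groth.Agent.H48

theorem isHQuasiProjective_comp_of_immersion {X' X S : Scheme.{u}} (π : X' ⟶ X) (r : X ⟶ S) {n : ℕ}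
    (j : X' ⟶ CohB1.ProjSpaceOver n S) [IsImmersion j]
    (hj : j ≫ CohB1.ProjSpaceOver.toBase n S = π ≫ r) [QuasiCompact (π ≫ r)] :
    RelProj.IsHQuasiProjective (π ≫ r) := by
  refine ⟨n, j, inferInstance, ?_, hj⟩
  have := Groth.Agent.H97.ProjProper.isProper_toBase n S
  haveI : QuasiCompact (j ≫ CohB1.ProjSpaceOver.toBase n S) := by rw [hj]; infer_instance
  exact QuasiCompact.of_comp j (CohB1.ProjSpaceOver.toBase n S)

theorem isHQuasiProjective_of_immersion {X' X S : Scheme.{u}} (π : X' ⟶ X) (r : X ⟶ S) {n : ℕ}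
    (j : X' ⟶ CohB1.ProjSpaceOver n S) [IsImmersion j]
    (hj : j ≫ CohB1.ProjSpaceOver.toBase n S = π ≫ r) [QuasiCompact π] :
    RelProj.IsHQuasiProjective π := by
  have hpb := isPullback_projSpaceOverMap n r
  let k : X' ⟶ CohB1.ProjSpaceOver n X := hpb.lift j π hj
  have hk1 : k ≫ projSpaceOverMap n r = j := hpb.lift_fst _ _ _
  have hk2 : k ≫ CohB1.ProjSpaceOver.toBase n X = π := hpb.lift_snd _ _ _
  haveI : IsImmersion (k ≫ projSpaceOverMap n r) := by rw [hk1]; infer_instance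
  have hkimm : IsImmersion k := IsImmersion.of_comp k (projSpaceOverMap n r)
  have := Groth.Agent.H97.ProjProper.isProper_toBase n X
  haveI : QuasiCompact (k ≫ CohB1.ProjSpaceOver.toBase n X) := by rw [hk2]; infer_instance
  exact ⟨n, k, hkimm, QuasiCompact.of_comp k (CohB1.ProjSpaceOver.toBase n X), hk2⟩

theorem isProjective_of_immersion_of_isProper {X' X S : Scheme.{u}} (π : X' ⟶ X) (r : X ⟶ S) {n : ℕ}
    (j : X' ⟶ CohB1.ProjSpaceOver n S) [IsImmersion j]
    (hj : j ≫ CohB1.ProjSpaceOver.toBase n S = π ≫ r) [IsProper π] :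
    RelProj.IsProjective π :=
  Groth.Agent.S9717.result π ((Groth.Agent.H20.HProj.isHProjective_iff π).mpr
    ⟨isHQuasiProjective_of_immersion π r j hj, inferInstance⟩)

theorem isProjective_comp_of_immersion_of_isProper {X' X S : Scheme.{u}} (π : X' ⟶ X) (r : X ⟶ S)
    {n : ℕ} (j : X' ⟶ CohB1.ProjSpaceOver n S) [IsImmersion j]
    (hj : j ≫ CohB1.ProjSpaceOver.toBase n S = π ≫ r) [IsProper (π ≫ r)] :
    RelProj.IsProjective (π ≫ r) :=
  Groth.Agent.S9717.result _ ((Groth.Agent.H20.HProj.isHProjective_iff _).mpr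
    ⟨isHQuasiProjective_comp_of_immersion π r j hj, inferInstance⟩)

theorem isQuasiProjective_comp_of_immersion {X' X S : Scheme.{u}} (π : X' ⟶ X) (r : X ⟶ S) {n : ℕ}
    (j : X' ⟶ CohB1.ProjSpaceOver n S) [IsImmersion j]
    (hj : j ≫ CohB1.ProjSpaceOver.toBase n S = π ≫ r) [QuasiCompact (π ≫ r)] :
    RelProj.IsQuasiProjective (π ≫ r) :=
  Groth.Agent.H18.VA.isQuasiProjective_of_isHQuasiProjective _
    (isHQuasiProjective_comp_of_immersion π r j hj)

/-- irreducibility passes to `X'` when `π` is an isomorphism over a nonempty open with dense preimage -/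
theorem irreducibleSpace_of_dense_preimage {X' X : Scheme.{u}} (π : X' ⟶ X) (U : X.Opens)
    (hU : Dense ((π ⁻¹ᵁ U : X'.Opens) : Set X')) [IsIso (π ∣_ U)] [IrreducibleSpace X]
    (hne : (U : Set X).Nonempty) : IrreducibleSpace X' := by
  haveI : Nonempty (U : Scheme.{u}) := by
    obtain ⟨x, hx⟩ := hne
    exact ⟨⟨x, hx⟩⟩
  haveI hUirr : IrreducibleSpace (U : Scheme.{u}) := U.ι.isOpenEmbedding.irreducibleSpace
  let e : (π ⁻¹ᵁ U : Scheme.{u}) ≃ₜ (U : Scheme.{u}) := Scheme.homeoOfIso (asIso (π ∣_ U))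
  haveI : Nonempty (π ⁻¹ᵁ U : Scheme.{u}) := ⟨e.symm (Classical.arbitrary _)⟩
  haveI hWirr : IrreducibleSpace (π ⁻¹ᵁ U : Scheme.{u}) := e.isOpenEmbedding.irreducibleSpace
  have h1 : IsIrreducible ((π ⁻¹ᵁ U : X'.Opens) : Set X') :=
    (isIrreducible_iff_irreducibleSpace).mpr hWirr
  have h2 := h1.closure
  rw [hU.closure_eq] at h2
  exact (irreducibleSpace_def X').mpr h2

end Groth.Agent.H20.RelProj
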