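import Mathlib
import Groth.Prelude.Def_RelProj
import Groth.Agent.H41.AffAlg
import Groth.Agent.H41.SymGrading

/-!
# Quasi-coherent graded algebras from graded coequifibered data on the affine opens (helper20)

Given coequifibered data `(F, α)` on the affine opens of `S` and, for every affine open `U`, a grading of the ring
`F(U)` preserved by restriction to basic opens with `α` landing in degree zero, the quasi-coherent algebra
`H41.AffAlg.alg H` becomes a quasi-coherent graded algebra `grAlg`.
-/

set_option autoImplicit false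
universe u

open CategoryTheory CategoryTheory.Limits AlgebraicGeometry TopologicalSpace Opposite

namespace Groth.Agent.H20.RelProj.GrAffAlg

open Groth.Agent.H41.AffAlg Groth.Agent.H41.SymGrading

variable {S : Scheme.{u}} {F : S.AffineZariskiSiteᵒᵖ ⥤ CommRingCat.{u}}
  {α : (Scheme.AffineZariskiSite.toOpensFunctor S).op ⋙ S.presheaf ⟶ F} (H : α.Coequifibered)

/-- `gammaAff` as a ring isomorphism -/
noncomputable def gamEquiv (U : S.Opens) (hU : IsAffineOpen U) :
    (alg H).presheaf.obj (op U) ≃+* F.obj (op ⟨U, hU⟩) :=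
  (asIso (gammaAff H U hU)).commRingCatIsoToRingEquiv

theorem gamEquiv_apply (U : S.Opens) (hU : IsAffineOpen U) (a : (alg H).presheaf.obj (op U)) :
    gamEquiv H U hU a = (gammaAff H U hU).hom a := rfl

theorem gamEquiv_res {U V : S.AffineZariskiSite} (i : V ⟶ U)
    (x : (alg H).presheaf.obj (op U.toOpens)) :
    gamEquiv H V.1 V.2 (((alg H).presheaf.map
        (homOfLE (Scheme.AffineZariskiSite.toOpens_mono i.le)).op).hom x) =
      (F.map i.op).hom (gamEquiv H U.1 U.2 x) := by
  have h := (gammaRestrict H).naturality i.op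
  exact congr($h x)

theorem gamEquiv_str (U : S.Opens) (hU : IsAffineOpen U) (r : Γ(S, U)) :
    gamEquiv H U hU (((alg H).str.app (op U)).hom r) = (α.app (op ⟨U, hU⟩)).hom r := by
  have h := π_app_gammaAff H U hU
  exact congr($h r)

/-- separatedness of the sheaf `alg H` -/
theorem eq_zero_of_locally (V : S.Opens) (y : (alg H).presheaf.obj (op V))
    (h : ∀ s ∈ V, ∃ (W : S.Opens) (i : W ≤ V), s ∈ W ∧
      ((alg H).presheaf.map (homOfLE i).op).hom y = 0) : y = 0 := by
  choose W i hs hy using h
  refine TopCat.Sheaf.eq_of_locally_eq' ⟨(alg H).presheaf, (alg H).isSheaf⟩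
    (fun s : V => W s.1 s.2) V (fun s => homOfLE (i s.1 s.2)) ?_ y 0 ?_
  · intro s hsV
    exact Opens.mem_iSup.mpr ⟨⟨s, hsV⟩, hs s hsV⟩
  · intro s
    rw [map_zero]
    exact hy s.1 s.2

section grading

variable {σ : S.AffineZariskiSite → Type u} [∀ U, SetLike (σ U) (F.obj (op U))]
  [∀ U, AddSubgroupClass (σ U) (F.obj (op U))]
  (G : ∀ U : S.AffineZariskiSite, ℕ → σ U) [∀ U, GradedRing (G U)]

set_option backward.isDefEq.respectTransparency false in
/-- the graded pieces over an affine open -/
noncomputable def deg (U : S.Opens) (hU : IsAffineOpen U) (d : ℕ) :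
    AddSubgroup ((alg H).presheaf.obj (op U)) :=
  comapGr (gamEquiv H U hU) (G ⟨U, hU⟩) d

set_option backward.isDefEq.respectTransparency false in
theorem mem_deg {U : S.Opens} {hU : IsAffineOpen U} {d : ℕ} {a : (alg H).presheaf.obj (op U)} :
    a ∈ deg H G U hU d ↔ gamEquiv H U hU a ∈ G ⟨U, hU⟩ d := Iff.rfl

set_option backward.isDefEq.respectTransparency false in
noncomputable instance (U : S.Opens) (hU : IsAffineOpen U) : GradedRing (deg H G U hU) :=
  comapGr_gradedRing (gamEquiv H U hU) (G ⟨U, hU⟩)

variable (hres : ∀ {U V : S.AffineZariskiSite} (i : V ⟶ U) (d : ℕ) (x : F.obj (op U)),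
    x ∈ G U d → (F.map i.op).hom x ∈ G V d)

include hres in
theorem res_mem_deg_site {U V : S.AffineZariskiSite} (i : V ⟶ U) {d : ℕ}
    {x : (alg H).presheaf.obj (op U.toOpens)} (hx : x ∈ deg H G U.1 U.2 d) :
    ((alg H).presheaf.map (homOfLE (Scheme.AffineZariskiSite.toOpens_mono i.le)).op).hom x ∈
      deg H G V.1 V.2 d := by
  rw [mem_deg, gamEquiv_res]
  exact hres i d _ hx

include hres in
theorem res_mem_deg {U V : S.Opens} (hU : IsAffineOpen U) (hV : IsAffineOpen V) (i : V ≤ U) {d : ℕ}
    {x : (alg H).presheaf.obj (op U)} (hx : x ∈ deg H G U hU d) :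
    ((alg H).presheaf.map (homOfLE i).op).hom x ∈ deg H G V hV d := by
  classical
  set y := ((alg H).presheaf.map (homOfLE i).op).hom x with hy
  suffices hz : ∀ e, e ≠ d → ((DirectSum.decompose (deg H G V hV) y e :
      (alg H).presheaf.obj (op V))) = 0 by
    rw [← DirectSum.sum_support_decompose (deg H G V hV) y]
    refine sum_mem fun e _ => ?_
    by_cases he : e = d
    · subst he
      exact SetLike.coe_mem _
    · rw [hz e he]
      exact zero_mem _
  intro e he
  apply eq_zero_of_locally H V
  intro s hsV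
  obtain ⟨f, g, hfg, hsf⟩ := exists_basicOpen_le_affine_inter hU hV s ⟨i hsV, hsV⟩
  have hWV : S.basicOpen f ≤ V := hfg ▸ S.basicOpen_le g
  refine ⟨S.basicOpen f, hWV, hsf, ?_⟩
  let Us : S.AffineZariskiSite := ⟨U, hU⟩
  let Vs : S.AffineZariskiSite := ⟨V, hV⟩
  let Ws : S.AffineZariskiSite := ⟨S.basicOpen f, hU.basicOpen f⟩
  have iWU : Ws ≤ Us := ⟨f, rfl⟩
  have iWV : Ws ≤ Vs := ⟨g, hfg.symm⟩
  -- the restriction to `W` as a graded ring homomorphism from `𝒜(V)`
  let φ : deg H G V hV →+*ᵍ deg H G (S.basicOpen f) (hU.basicOpen f) :=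
    { ((alg H).presheaf.map (homOfLE hWV).op).hom with
      map_mem := fun {k a} ha => res_mem_deg_site H G hres (U := Vs) (V := Ws) (homOfLE iWV) ha }
  have h1 : φ y ∈ deg H G (S.basicOpen f) (hU.basicOpen f) d := by
    have h2 : φ y = ((alg H).presheaf.map (homOfLE (S.basicOpen_le f)).op).hom x := by
      change ((alg H).presheaf.map (homOfLE hWV).op).hom
        (((alg H).presheaf.map (homOfLE i).op).hom x) = _
      rw [← CommRingCat.comp_apply, ← (alg H).presheaf.map_comp]
      rfl
    rw [h2]
    exact res_mem_deg_site H G hres (U := Us) (V := Ws) (homOfLE iWU) hx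
  have h3 : φ (DirectSum.decompose (deg H G V hV) y e : (alg H).presheaf.obj (op V)) =
      (DirectSum.decompose (deg H G (S.basicOpen f) (hU.basicOpen f)) (φ y) e :
        (alg H).presheaf.obj (op (S.basicOpen f))) :=
    GradedRingHom.map_directSumDecompose _ _ φ
  rw [DirectSum.decompose_of_mem_ne _ h1 (Ne.symm he)] at h3
  exact h3

variable (hstr : ∀ (U : S.AffineZariskiSite) (r : Γ(S, U.toOpens)), (α.app (op U)).hom r ∈ G U 0)

/-- The quasi-coherent graded algebra attached to graded coequifibered data. -/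
noncomputable def grAlg : RelProj.QCGrAlg S where
  toQCAlg := alg H
  deg U hU := deg H G U hU
  graded U hU := inferInstance
  map_mem := by
    intro U V hU hV i d x hx
    exact res_mem_deg H G hres hU hV i hx
  str_mem U hU r := by
    rw [mem_deg, gamEquiv_str]
    exact hstr ⟨U, hU⟩ r

end grading

end Groth.Agent.H20.RelProj.GrAffAlg
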