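import Groth.Agent.H20.RelProj.QuotPoly
import Groth.Agent.H20.RelProj.GrAffAlg

/-!
# The quasi-coherent graded algebra `O_S[x_0..x_n] / I` (helper20)
-/

set_option autoImplicit false
universe u

open CategoryTheory CategoryTheory.Limits AlgebraicGeometry TopologicalSpace Opposite

namespace Groth.Agent.H20.RelProj

open Groth.Agent.H41.AffAlg Groth.Agent.H41.SymGrading

variable {S : Scheme.{u}} {n : ℕ} (D : IdealFam S n)

/-- the grading of the quotient ring over an affine open -/
noncomputable abbrev G (U : S.AffineZariskiSite) : ℕ → Submodule Γ(S, U.toOpens) (Q D U) :=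
  Groth.Agent.H18.quotGrading (CohB1.polyGrading n Γ(S, U.toOpens)) (D.I U)

noncomputable instance instGradedAlgebraG (U : S.AffineZariskiSite) : GradedAlgebra (G D U) :=
  Groth.Agent.H18.quotGradedAlgebra _ (D.hom U)

theorem G_res {U V : S.AffineZariskiSite} (i : V ⟶ U) (d : ℕ) (x : Q D U) (hx : x ∈ G D U d) :
    qRes D i.le x ∈ G D V d := by
  obtain ⟨a, ha, rfl⟩ := Groth.Agent.H18.exists_of_mem_quotGrading _ _ hx
  rw [qRes_mk]
  refine Groth.Agent.H18.mk_mem_quotGrading _ _ ?_
  exact MvPolynomial.IsHomogeneous.map ha _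

theorem G_str (U : S.AffineZariskiSite) (r : Γ(S, U.toOpens)) :
    Ideal.Quotient.mk (D.I U) (MvPolynomial.C r) ∈ G D U 0 :=
  Groth.Agent.H18.mk_mem_quotGrading _ _ (MvPolynomial.isHomogeneous_C _ r)

/-- The quasi-coherent graded algebra `O_S[x_0, …, x_n] / I`. -/
noncomputable def qcGrAlg : RelProj.QCGrAlg S :=
  @GrAffAlg.grAlg S (F D) (α D) (coequifibered D)
    (fun U => Submodule Γ(S, U.toOpens) (Q D U))
    (fun U => inferInstanceAs (SetLike (Submodule Γ(S, U.toOpens) (Q D U)) (Q D U)))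
    (fun U => inferInstanceAs (AddSubgroupClass (Submodule Γ(S, U.toOpens) (Q D U)) (Q D U)))
    (G D) (fun U => instGradedAlgebraG D U)
    (fun i d x hx => G_res D i d x hx) (fun U r => G_str D U r)

/-- sections of `qcGrAlg D` over an affine open are the quotient ring -/
noncomputable def gam (U : S.Opens) (hU : IsAffineOpen U) :
    (qcGrAlg D).presheaf.obj (op U) ≃+* Q D ⟨U, hU⟩ :=
  GrAffAlg.gamEquiv (coequifibered D) U hU

theorem mem_deg_iff {U : S.Opens} {hU : IsAffineOpen U} {d : ℕ} {a : (qcGrAlg D).presheaf.obj (op U)} :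
    a ∈ (qcGrAlg D).deg U hU d ↔ gam D U hU a ∈ G D ⟨U, hU⟩ d := Iff.rfl

theorem gam_res {U V : S.AffineZariskiSite} (i : V ≤ U) (x : (qcGrAlg D).presheaf.obj (op U.toOpens)) :
    gam D V.1 V.2 (((qcGrAlg D).presheaf.map
        (homOfLE (Scheme.AffineZariskiSite.toOpens_mono i)).op).hom x) =
      qRes D i (gam D U.1 U.2 x) :=
  GrAffAlg.gamEquiv_res (coequifibered D) (homOfLE i) x

theorem gam_str (U : S.Opens) (hU : IsAffineOpen U) (r : Γ(S, U)) :
    gam D U hU (((qcGrAlg D).str.app (op U)).hom r) =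
      Ideal.Quotient.mk (D.I ⟨U, hU⟩) (MvPolynomial.C r) :=
  GrAffAlg.gamEquiv_str (coequifibered D) U hU r

/-- the class of the variable `x_j` -/
noncomputable def xi (U : S.Opens) (hU : IsAffineOpen U) (j : Fin (n + 1)) :
    (qcGrAlg D).presheaf.obj (op U) :=
  (gam D U hU).symm (Ideal.Quotient.mk (D.I ⟨U, hU⟩) (MvPolynomial.X j))

theorem gam_xi (U : S.Opens) (hU : IsAffineOpen U) (j : Fin (n + 1)) :
    gam D U hU (xi D U hU j) = Ideal.Quotient.mk (D.I ⟨U, hU⟩) (MvPolynomial.X j) :=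
  (gam D U hU).apply_symm_apply _

theorem xi_mem (U : S.Opens) (hU : IsAffineOpen U) (j : Fin (n + 1)) :
    xi D U hU j ∈ (qcGrAlg D).deg U hU 1 := by
  rw [mem_deg_iff, gam_xi]
  exact Groth.Agent.H18.mk_mem_quotGrading _ _ (MvPolynomial.isHomogeneous_X _ j)

theorem isGenDegOne : (qcGrAlg D).IsGenDegOne := by
  intro U hU
  rw [eq_top_iff]
  rintro x -
  obtain ⟨y, rfl⟩ : ∃ y, x = (gam D U hU).symm y :=
    ⟨gam D U hU x, ((gam D U hU).symm_apply_apply x).symm⟩
  obtain ⟨p, rfl⟩ := Ideal.Quotient.mk_surjective y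
  induction p using MvPolynomial.induction_on with
  | C a =>
    have h1 : (gam D U hU).symm (Ideal.Quotient.mk (D.I ⟨U, hU⟩) (MvPolynomial.C a)) =
        ((qcGrAlg D).str.app (op U)).hom a := by
      apply (gam D U hU).injective
      rw [RingEquiv.apply_symm_apply, gam_str]
    rw [h1]
    exact Subring.subset_closure (Or.inl ((qcGrAlg D).str_mem U hU a))
  | add p q hp hq =>
    rw [map_add, map_add]
    exact Subring.add_mem _ hp hq
  | mul_X p j hp =>
    rw [map_mul, map_mul]
    exact Subring.mul_mem _ hp (Subring.subset_closure (Or.inr (xi_mem D U hU j)))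

theorem isFTDeg_one : (qcGrAlg D).IsFTDeg 1 := by
  classical
  intro U hU
  refine ⟨Finset.univ.image (xi D U hU), ?_, ?_⟩
  · intro t ht
    obtain ⟨j, -, rfl⟩ := Finset.mem_image.mp ht
    exact xi_mem D U hU j
  · intro x hx
    rw [mem_deg_iff] at hx
    obtain ⟨a, ha, hax⟩ := Groth.Agent.H18.exists_of_mem_quotGrading _ _ hx
    change a ∈ MvPolynomial.homogeneousSubmodule (Fin (n + 1)) Γ(S, U) 1 at ha
    rw [MvPolynomial.homogeneousSubmodule_one_eq_span_X, Submodule.mem_span_range_iff_exists_fun] at ha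
    obtain ⟨c, hc⟩ := ha
    refine ⟨fun t => ∑ j ∈ Finset.univ.filter (fun j => xi D U hU j = t), c j, ?_⟩
    have h1 : x = ∑ j, ((qcGrAlg D).str.app (op U)).hom (c j) * xi D U hU j := by
      apply (gam D U hU).injective
      rw [map_sum, ← hax, ← hc, map_sum]
      refine Finset.sum_congr rfl fun j _ => ?_
      rw [map_mul, gam_str, gam_xi, ← map_mul, MvPolynomial.smul_eq_C_mul]
    rw [h1, Finset.sum_image']
    intro t _
    rw [map_sum, Finset.sum_mul]
    refine Finset.sum_congr rfl fun j hj => ?_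
    rw [(Finset.mem_filter.mp hj).2]

end Groth.Agent.H20.RelProj
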