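import Groth.Agent.H20.RelProj.PsiChart
import Groth.Agent.H20.RelProj.AwayLoc
import Groth.Agent.H20.RelProj.ChartIdealComap
import Groth.Agent.H20.RelProj.QuotPolyGr

/-!
# The family of homogeneous ideals cut out by a closed subscheme of `P^n_S` (helper20)
-/

set_option autoImplicit false
universe u

open CategoryTheory CategoryTheory.Limits AlgebraicGeometry TopologicalSpace Opposite
open HomogeneousLocalization

namespace Groth.Agent.H20.RelProj

open Groth.Agent.H97.ProjChart Groth.Agent.H18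

section ring

variable (n : ℕ) (R : Type u) [CommRing R]

open Classical in
/-- the variables, as a finite set -/
noncomputable def sX : Finset (MvPolynomial (Fin (n + 1)) R) := Finset.univ.image MvPolynomial.X

theorem mem_sX {f : MvPolynomial (Fin (n + 1)) R} : f ∈ sX n R ↔ ∃ j, MvPolynomial.X j = f := by
  classical
  unfold sX
  rw [Finset.mem_image]
  simp

theorem X_mem_sX (j : Fin (n + 1)) : (MvPolynomial.X j : MvPolynomial (Fin (n + 1)) R) ∈ sX n R :=
  (mem_sX n R).mpr ⟨j, rfl⟩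

theorem sX_mem_one : ∀ f ∈ sX n R, f ∈ CohB1.polyGrading n R 1 := by
  intro f hf
  obtain ⟨j, rfl⟩ := (mem_sX n R).mp hf
  exact X_mem R n j

theorem irrelevant_eq_span :
    (HomogeneousIdeal.irrelevant (CohB1.polyGrading n R)).toIdeal = Ideal.span (sX n R : Set _) := by
  apply le_antisymm
  · refine (Groth.Agent.Lead.Coh.irrelevant_le_span_X n R).trans (Ideal.span_mono ?_)
    rintro _ ⟨j, rfl⟩
    exact X_mem_sX n R j
  · rw [Ideal.span_le]
    intro f hf
    exact HomogeneousIdeal.mem_irrelevant_of_mem _ one_pos (sX_mem_one n R f hf)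

end ring

variable {X S : Scheme.{u}} {n : ℕ} (i : X ⟶ CohB1.ProjSpaceOver n S)

/-- the ideal sheaf of `X` pulled back to `P^n_{Γ(S,U)}` -/
noncomputable def idl (U : S.Opens) (hU : IsAffineOpen U) :
    (Proj (CohB1.polyGrading n Γ(S, U))).IdealSheafData :=
  (i.ker.comap (psi n U hU) : (CohB1.ProjSpace n Γ(S, U)).IdealSheafData)

/-- the saturated homogeneous ideal of `X` over the affine open `U` -/
noncomputable def famI (U : S.Opens) (hU : IsAffineOpen U) : Ideal (MvPolynomial (Fin (n + 1)) Γ(S, U)) :=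
  sectIdeal (sX n Γ(S, U)) (sX_mem_one n Γ(S, U)) (chartIdeal (CohB1.polyGrading n Γ(S, U)) (idl i U hU))

theorem famI_isHomogeneous (U : S.Opens) (hU : IsAffineOpen U) :
    (famI i U hU).IsHomogeneous (CohB1.polyGrading n Γ(S, U)) :=
  sectIdeal_isHomogeneous _ _ _

section compat

variable {U V : S.Opens} (hU : IsAffineOpen U) (hV : IsAffineOpen V) (h : V ≤ U)

include hU hV in
theorem isOpenImmersion_projMap :
    letI := resAlgebra h
    IsOpenImmersion (projMap Γ(S, U) Γ(S, V) n) := by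
  letI := resAlgebra h
  have : IsOpenImmersion (projMap Γ(S, U) Γ(S, V) n ≫ psi n U hU) := by
    rw [projMap_psi n hU hV h]
    infer_instance
  exact IsOpenImmersion.of_comp _ (psi n U hU)

theorem idl_comap :
    letI := resAlgebra h
    idl i V hV = (idl i U hU).comap (Proj.map (gmap Γ(S, U) Γ(S, V) n) (irrelevant_le_map _ _ n)) := by
  letI := resAlgebra h
  unfold idl
  have h1 := Scheme.IdealSheafData.comap_comp i.ker (projMap Γ(S, U) Γ(S, V) n) (psi n U hU)
  rw [projMap_psi n hU hV h] at h1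
  exact h1

theorem chartIdeal_idl {f : MvPolynomial (Fin (n + 1)) Γ(S, U)}
    (hf : f ∈ CohB1.polyGrading n Γ(S, U) 1) :
    letI := resAlgebra h
    chartIdeal (CohB1.polyGrading n Γ(S, V)) (idl i V hV) (gmap Γ(S, U) Γ(S, V) n f) =
      (chartIdeal (CohB1.polyGrading n Γ(S, U)) (idl i U hU) f).map
        (Away.map (gmap Γ(S, U) Γ(S, V) n) f) := by
  letI := resAlgebra h
  haveI : IsOpenImmersion (Proj.map (gmap Γ(S, U) Γ(S, V) n) (irrelevant_le_map _ _ n)) :=
    isOpenImmersion_projMap hU hV h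
  rw [idl_comap i hU hV h]
  exact chartIdeal_comap _ _ (gmap Γ(S, U) Γ(S, V) n) (irrelevant_le_map _ _ n) (idl i U hU) hf

theorem mem_famI_res (a : MvPolynomial (Fin (n + 1)) Γ(S, U)) (ha : a ∈ famI i U hU) :
    MvPolynomial.map (S.presheaf.map (homOfLE h).op).hom a ∈ famI i V hV := by
  letI := resAlgebra h
  intro d f hf
  obtain ⟨j, rfl⟩ := (mem_sX n _).mp hf
  have key : ∀ (f' : MvPolynomial (Fin (n + 1)) Γ(S, V)) (hf' : f' ∈ CohB1.polyGrading n Γ(S, V) 1),
      f' = gmap Γ(S, U) Γ(S, V) n (MvPolynomial.X j) →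
      dfrac (CohB1.polyGrading n Γ(S, V)) hf' d (gmap Γ(S, U) Γ(S, V) n a) ∈
        chartIdeal (CohB1.polyGrading n Γ(S, V)) (idl i V hV) f' := by
    rintro f' hf' rfl
    rw [chartIdeal_idl i hU hV h (X_mem Γ(S, U) n j),
      ← awayMap_dfrac (gmap Γ(S, U) Γ(S, V) n) (X_mem Γ(S, U) n j)]
    exact Ideal.mem_map_of_mem _ (ha d _ (X_mem_sX n _ j))
  exact key _ _ (gmap_X Γ(S, U) Γ(S, V) n j).symm

end compat

section sat

variable {U : S.Opens} (hU : IsAffineOpen U) (r : Γ(S, U))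

theorem exists_mem_famI_homogeneous {d : ℕ} (g : MvPolynomial (Fin (n + 1)) Γ(S, S.basicOpen r))
    (hgd : g ∈ CohB1.polyGrading n Γ(S, S.basicOpen r) d)
    (hg : g ∈ famI i (S.basicOpen r) (hU.basicOpen r)) :
    ∃ (N : ℕ) (g' : MvPolynomial (Fin (n + 1)) Γ(S, U)), g' ∈ famI i U hU ∧
      MvPolynomial.map (S.presheaf.map (homOfLE (S.basicOpen_le r)).op).hom g' =
        MvPolynomial.C ((S.presheaf.map (homOfLE (S.basicOpen_le r)).op).hom r) ^ N * g := by
  classical
  letI alg := resAlgebra (S.basicOpen_le r)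
  haveI loc : IsLocalization.Away r Γ(S, S.basicOpen r) := hU.isLocalization_basicOpen r
  have hV := hU.basicOpen r
  obtain ⟨N₀, g₀, hg₀⟩ := exists_map_eq_C_pow_mul r g
  let g₁ : MvPolynomial (Fin (n + 1)) Γ(S, U) :=
    (DirectSum.decompose (CohB1.polyGrading n Γ(S, U)) g₀ d : MvPolynomial (Fin (n + 1)) Γ(S, U))
  have hg₁d : g₁ ∈ CohB1.polyGrading n Γ(S, U) d := Subtype.prop _
  have hg₁ : gmap Γ(S, U) Γ(S, S.basicOpen r) n g₁ =
      MvPolynomial.C (algebraMap Γ(S, U) Γ(S, S.basicOpen r) r) ^ N₀ * g := by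
    rw [gmap_decompose, gmap_apply, hg₀, DirectSum.decompose_of_mem_same _ (C_pow_mul_mem hgd _ N₀)]
  have hmemV : MvPolynomial.C (algebraMap Γ(S, U) Γ(S, S.basicOpen r) r) ^ N₀ * g ∈
      famI i (S.basicOpen r) (hU.basicOpen r) := Ideal.mul_mem_left _ _ hg
  have hex : ∀ j : Fin (n + 1), ∃ M : ℕ,
      dfrac (CohB1.polyGrading n Γ(S, U)) (X_mem Γ(S, U) n j) d (MvPolynomial.C r ^ M * g₁) ∈
        chartIdeal (CohB1.polyGrading n Γ(S, U)) (idl i U hU) (MvPolynomial.X j) := by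
    intro j
    letI := (Away.map (gmap Γ(S, U) Γ(S, S.basicOpen r) n) (MvPolynomial.X j)).toAlgebra
    haveI hloc := isLocalization_awayMap (R := Γ(S, S.basicOpen r)) r (X_mem Γ(S, U) n j)
    have key : ∀ (f' : MvPolynomial (Fin (n + 1)) Γ(S, S.basicOpen r))
        (hf' : f' ∈ CohB1.polyGrading n Γ(S, S.basicOpen r) 1), MvPolynomial.X j = f' →
        dfrac (CohB1.polyGrading n Γ(S, S.basicOpen r)) hf' d
          (MvPolynomial.C (algebraMap Γ(S, U) Γ(S, S.basicOpen r) r) ^ N₀ * g) ∈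
          chartIdeal (CohB1.polyGrading n Γ(S, S.basicOpen r)) (idl i (S.basicOpen r) (hU.basicOpen r)) f' := by
      rintro f' hf' rfl
      exact hmemV d _ (X_mem_sX n _ j)
    have h1 := key _ ((gmap Γ(S, U) Γ(S, S.basicOpen r) n).map_mem (X_mem Γ(S, U) n j))
      (gmap_X Γ(S, U) Γ(S, S.basicOpen r) n j).symm
    rw [← hg₁, ← awayMap_dfrac (gmap Γ(S, U) Γ(S, S.basicOpen r) n) (X_mem Γ(S, U) n j)] at h1
    have h1' : Away.map (gmap Γ(S, U) Γ(S, S.basicOpen r) n) (MvPolynomial.X j)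
        (dfrac (CohB1.polyGrading n Γ(S, U)) (X_mem Γ(S, U) n j) d g₁) ∈
        (chartIdeal (CohB1.polyGrading n Γ(S, U)) (idl i U hU) (MvPolynomial.X j)).map
          (Away.map (gmap Γ(S, U) Γ(S, S.basicOpen r) n) (MvPolynomial.X j)) := by
      rw [← chartIdeal_idl i hU (hU.basicOpen r) (S.basicOpen_le r) (X_mem Γ(S, U) n j)]
      exact h1
    have h2 := (IsLocalization.algebraMap_mem_map_algebraMap_iff
      (Submonoid.powers (cstAway (X_mem Γ(S, U) n j) r))
      (Away (CohB1.polyGrading n Γ(S, S.basicOpen r))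
        (gmap Γ(S, U) Γ(S, S.basicOpen r) n (MvPolynomial.X j))) _ _).mp h1'
    obtain ⟨_, ⟨M, rfl⟩, hM⟩ := h2
    refine ⟨M, ?_⟩
    rw [← cstAway_pow_mul_dfrac]
    exact hM
  choose M hM using hex
  let Mx := Finset.univ.sup M
  refine ⟨Mx + N₀, MvPolynomial.C r ^ Mx * g₁, ?_, ?_⟩
  · refine mem_sectIdeal_of_mem _ _ _ (C_pow_mul_mem hg₁d r Mx) fun f hf => ?_
    obtain ⟨j, rfl⟩ := (mem_sX n _).mp hf
    have hle : M j ≤ Mx := Finset.le_sup (Finset.mem_univ j)
    obtain ⟨e, he⟩ := Nat.exists_eq_add_of_le hle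
    have hpow : MvPolynomial.C r ^ Mx * g₁ =
        MvPolynomial.C r ^ e * (MvPolynomial.C r ^ M j * g₁) := by
      rw [← mul_assoc, ← pow_add, he, add_comm (M j) e]
    rw [hpow, ← cstAway_pow_mul_dfrac]
    exact Ideal.mul_mem_left _ _ (hM j)
  · change gmap Γ(S, U) Γ(S, S.basicOpen r) n (MvPolynomial.C r ^ Mx * g₁) = _
    rw [map_mul, map_pow, gmap_C, hg₁, pow_add, mul_assoc]
    rfl

theorem exists_mem_famI (g : MvPolynomial (Fin (n + 1)) Γ(S, S.basicOpen r))
    (hg : g ∈ famI i (S.basicOpen r) (hU.basicOpen r)) :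
    ∃ (N : ℕ) (g' : MvPolynomial (Fin (n + 1)) Γ(S, U)), g' ∈ famI i U hU ∧
      MvPolynomial.map (S.presheaf.map (homOfLE (S.basicOpen_le r)).op).hom g' =
        MvPolynomial.C ((S.presheaf.map (homOfLE (S.basicOpen_le r)).op).hom r) ^ N * g := by
  classical
  have hcomp : ∀ d, (DirectSum.decompose (CohB1.polyGrading n Γ(S, S.basicOpen r)) g d :
      MvPolynomial (Fin (n + 1)) Γ(S, S.basicOpen r)) ∈ famI i (S.basicOpen r) (hU.basicOpen r) :=
    fun d => famI_isHomogeneous i _ _ d hg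
  choose N g' hg'I hg'eq using fun d => exists_mem_famI_homogeneous i hU r _ (Subtype.prop _) (hcomp d)
  let T := (DirectSum.decompose (CohB1.polyGrading n Γ(S, S.basicOpen r)) g).support
  refine ⟨T.sup N, ∑ d ∈ T, MvPolynomial.C r ^ (T.sup N - N d) * g' d, ?_, ?_⟩
  · exact sum_mem fun d _ => Ideal.mul_mem_left _ _ (hg'I d)
  · rw [map_sum]
    conv_rhs => rw [← DirectSum.sum_support_decompose (CohB1.polyGrading n Γ(S, S.basicOpen r)) g,
      Finset.mul_sum]
    refine Finset.sum_congr rfl fun d hd => ?_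
    have hle : N d ≤ T.sup N := Finset.le_sup hd
    rw [map_mul, map_pow, MvPolynomial.map_C, hg'eq, ← mul_assoc, ← pow_add,
      Nat.sub_add_cancel hle]

end sat

end Groth.Agent.H20.RelProj
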