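import Mathlib
import Groth.Prelude.Def_CohB1
import Groth.Agent.H97.ProjSpaceOverIso
import Groth.Agent.H48.ProjSpace

/-!
# The open charts `P^n_{Γ(S,U)} ⟶ P^n_S` over the affine opens of `S` (helper20)
-/

set_option autoImplicit false
universe u

open CategoryTheory CategoryTheory.Limits AlgebraicGeometry TopologicalSpace Opposite

namespace Groth.Agent.H20.RelProj

open Groth.Agent.H97.ProjChart Groth.Agent.H48

attribute [local instance] ulZAlgebra

variable {S : Scheme.{u}} (n : ℕ)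

/-- the projection `P^n_S ⟶ P^n_ℤ` -/
noncomputable def fstP (S : Scheme.{u}) : CohB1.ProjSpaceOver n S ⟶ CohB1.ProjSpace n (ULift.{u} ℤ) :=
  pullback.fst _ _

theorem hom_ext_projSpaceOver {T : Scheme.{u}} {a b : T ⟶ CohB1.ProjSpaceOver n S}
    (h1 : a ≫ fstP n S = b ≫ fstP n S)
    (h2 : a ≫ CohB1.ProjSpaceOver.toBase n S = b ≫ CohB1.ProjSpaceOver.toBase n S) : a = b :=
  pullback.hom_ext h1 h2

theorem projMap_congr' {A B σ τ : Type u} [CommRing A] [SetLike σ A] [AddSubgroupClass σ A]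
    [CommRing B] [SetLike τ B] [AddSubgroupClass τ B]
    {𝒜 : ℕ → σ} {ℬ : ℕ → τ} [GradedRing 𝒜] [GradedRing ℬ]
    {f f' : 𝒜 →+*ᵍ ℬ} (e : f = f') (hf : HomogeneousIdeal.irrelevant ℬ ≤ (HomogeneousIdeal.irrelevant 𝒜).map f)
    (hf' : HomogeneousIdeal.irrelevant ℬ ≤ (HomogeneousIdeal.irrelevant 𝒜).map f') :
    Proj.map f hf = Proj.map f' hf' := by
  subst e; rfl

section psi

variable (U : S.Opens) (hU : IsAffineOpen U)

theorem psi_cond :
    projMap (ULift.{u} ℤ) Γ(S, U) n ≫ CohB1.ProjSpace.toSpec n (ULift.{u} ℤ) =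
      (CohB1.ProjSpace.toSpec n Γ(S, U) ≫ hU.fromSpec) ≫ specULiftZIsTerminal.from S := by
  rw [Category.assoc, terminal_comp]
  exact (isPullback_projSpaceOver Γ(S, U) n).w

/-- the chart `P^n_{Γ(S,U)} ⟶ P^n_S` -/
noncomputable def psi : CohB1.ProjSpace n Γ(S, U) ⟶ CohB1.ProjSpaceOver n S :=
  pullback.lift (projMap (ULift.{u} ℤ) Γ(S, U) n) (CohB1.ProjSpace.toSpec n Γ(S, U) ≫ hU.fromSpec)
    (psi_cond n U hU)

@[reassoc]
theorem psi_toBase :
    psi n U hU ≫ CohB1.ProjSpaceOver.toBase n S = CohB1.ProjSpace.toSpec n Γ(S, U) ≫ hU.fromSpec :=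
  pullback.lift_snd _ _ _

@[reassoc]
theorem psi_fst : psi n U hU ≫ fstP n S = projMap (ULift.{u} ℤ) Γ(S, U) n :=
  pullback.lift_fst _ _ _

theorem isPullback_psi :
    IsPullback (psi n U hU) (CohB1.ProjSpace.toSpec n Γ(S, U)) (CohB1.ProjSpaceOver.toBase n S)
      hU.fromSpec := by
  refine IsPullback.of_right ?_ (psi_toBase n U hU)
    (IsPullback.of_hasPullback (CohB1.ProjSpace.toSpec n (ULift.{u} ℤ)) (specULiftZIsTerminal.from S))
  have h1 : psi n U hU ≫ pullback.fst (CohB1.ProjSpace.toSpec n (ULift.{u} ℤ))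
      (specULiftZIsTerminal.from S) = projMap (ULift.{u} ℤ) Γ(S, U) n := psi_fst n U hU
  rw [h1, terminal_comp]
  exact isPullback_projSpaceOver Γ(S, U) n

instance isOpenImmersion_psi : IsOpenImmersion (psi n U hU) :=
  MorphismProperty.of_isPullback (P := @IsOpenImmersion) (isPullback_psi n U hU).flip
    (inferInstanceAs (IsOpenImmersion hU.fromSpec))

theorem opensRange_psi : (psi n U hU).opensRange = CohB1.ProjSpaceOver.toBase n S ⁻¹ᵁ U := by
  apply Opens.ext
  have h1 : psi n U hU = (isPullback_psi n U hU).isoPullback.hom ≫ pullback.fst _ _ :=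
    ((isPullback_psi n U hU).isoPullback_hom_fst).symm
  rw [Scheme.Hom.coe_opensRange, h1, Scheme.Hom.comp_base, TopCat.coe_comp, Set.range_comp,
    Set.range_eq_univ.mpr (ConcreteCategory.bijective_of_isIso
      ((isPullback_psi n U hU).isoPullback.hom.base)).2, Set.image_univ, Scheme.Pullback.range_fst,
    hU.range_fromSpec]
  rfl

end psi

section compat

variable {U V : S.Opens} (hU : IsAffineOpen U) (hV : IsAffineOpen V) (h : V ≤ U)

/-- the restriction map, as an algebra -/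
noncomputable abbrev resAlgebra : Algebra Γ(S, U) Γ(S, V) :=
  (S.presheaf.map (homOfLE h).op).hom.toAlgebra

theorem gmap_comp :
    letI := resAlgebra h
    (gmap Γ(S, U) Γ(S, V) n).comp (gmap (ULift.{u} ℤ) Γ(S, U) n) = gmap (ULift.{u} ℤ) Γ(S, V) n := by
  letI := resAlgebra h
  apply GradedRingHom.ext
  intro p
  change MvPolynomial.map _ (MvPolynomial.map _ p) = MvPolynomial.map _ p
  rw [MvPolynomial.map_map]
  congr 2
  apply RingHom.ext
  intro z
  obtain ⟨z⟩ := z
  simp [RingHom.algebraMap_toAlgebra]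

theorem projMap_comp :
    letI := resAlgebra h
    projMap Γ(S, U) Γ(S, V) n ≫ projMap (ULift.{u} ℤ) Γ(S, U) n = projMap (ULift.{u} ℤ) Γ(S, V) n := by
  letI := resAlgebra h
  have h1 := Proj.map_comp (gmap (ULift.{u} ℤ) Γ(S, U) n) (gmap Γ(S, U) Γ(S, V) n)
    (irrelevant_le_map _ _ n) (irrelevant_le_map _ _ n)
  exact h1.symm.trans (projMap_congr' (gmap_comp n h) _ _)

theorem projMap_psi :
    letI := resAlgebra h
    projMap Γ(S, U) Γ(S, V) n ≫ psi n U hU = psi n V hV := by
  letI := resAlgebra h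
  apply hom_ext_projSpaceOver
  · rw [Category.assoc, psi_fst, psi_fst, projMap_comp]
  · rw [Category.assoc, psi_toBase, psi_toBase, ← Category.assoc, projMap_toSpec, Category.assoc]
    congr 1
    exact hU.map_fromSpec hV (homOfLE h).op

end compat

end Groth.Agent.H20.RelProj
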