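import Mathlib
import Groth.Prelude.Def_RelProj
import Groth.Prelude.Def_CohB1
import Groth.Agent.H41.AffAlg
import Groth.Agent.H41.SymGrading
import Groth.Agent.H18.GradedQuot

/-!
# A quasi-coherent graded quotient of the polynomial algebra `O_S[x_0, …, x_n]` (helper20)

Given a family of homogeneous ideals `I U ⊆ Γ(S, U)[x_0..x_n]` over the affine opens of `S`, compatible with
restriction (`res`) and saturated with respect to localisation (`sat`), we build the quasi-coherent graded
algebra `qcGrAlg D : RelProj.QCGrAlg S` whose sections over an affine `U` are `Γ(S,U)[x] ⧸ I U`.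
-/

set_option autoImplicit false
universe u

open CategoryTheory CategoryTheory.Limits AlgebraicGeometry TopologicalSpace Opposite

namespace Groth.Agent.H20.RelProj

/-- A compatible family of homogeneous ideals of the polynomial rings over the affine opens. -/
structure IdealFam (S : Scheme.{u}) (n : ℕ) where
  I : ∀ U : S.AffineZariskiSite, Ideal (MvPolynomial (Fin (n + 1)) Γ(S, U.toOpens))
  hom : ∀ U, (I U).IsHomogeneous (CohB1.polyGrading n Γ(S, U.toOpens))
  res : ∀ {U V : S.AffineZariskiSite} (h : V ≤ U) (a : MvPolynomial (Fin (n + 1)) Γ(S, U.toOpens)), a ∈ I U →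
    MvPolynomial.map (S.presheaf.map (homOfLE (Scheme.AffineZariskiSite.toOpens_mono h)).op).hom a ∈ I V
  sat : ∀ (U : S.AffineZariskiSite) (r : Γ(S, U.toOpens)) (g : MvPolynomial (Fin (n + 1)) Γ(S, (U.basicOpen r).toOpens)),
    g ∈ I (U.basicOpen r) → ∃ (N : ℕ) (g' : MvPolynomial (Fin (n + 1)) Γ(S, U.toOpens)), g' ∈ I U ∧
      MvPolynomial.map (S.presheaf.map
        (homOfLE (Scheme.AffineZariskiSite.toOpens_mono (U.basicOpen_le r))).op).hom g' =
        MvPolynomial.C ((S.presheaf.map
          (homOfLE (Scheme.AffineZariskiSite.toOpens_mono (U.basicOpen_le r))).op).hom r) ^ N * g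


section algebra

open MvPolynomial

theorem exists_map_eq_C_pow_mul {σ : Type*} {R R' : Type*} [CommRing R] [CommRing R'] [Algebra R R']
    (r : R) [IsLocalization.Away r R'] (g : MvPolynomial σ R') :
    ∃ (N : ℕ) (g' : MvPolynomial σ R), MvPolynomial.map (algebraMap R R') g' =
      C (algebraMap R R' r) ^ N * g := by
  induction g using MvPolynomial.induction_on with
  | C a =>
    obtain ⟨n, a', h⟩ := IsLocalization.Away.surj r a
    refine ⟨n, C a', ?_⟩
    rw [map_C, ← h, ← C_pow, ← C_mul, mul_comm]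
  | add p q hp hq =>
    obtain ⟨N₁, p', hp'⟩ := hp
    obtain ⟨N₂, q', hq'⟩ := hq
    refine ⟨N₁ + N₂, C (r ^ N₂) * p' + C (r ^ N₁) * q', ?_⟩
    rw [map_add, map_mul, map_mul, hp', hq', map_C, map_C, map_pow, map_pow, map_pow, map_pow]
    ring
  | mul_X p i hp =>
    obtain ⟨N, p', hp'⟩ := hp
    refine ⟨N, p' * X i, ?_⟩
    rw [map_mul, hp', map_X, mul_assoc]

theorem exists_C_pow_mul_eq_zero {σ : Type*} {R R' : Type*} [CommRing R] [CommRing R'] [Algebra R R']
    (r : R) [IsLocalization.Away r R'] (p : MvPolynomial σ R)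
    (hp : MvPolynomial.map (algebraMap R R') p = 0) : ∃ M : ℕ, C (r ^ M) * p = 0 := by
  classical
  have h1 : ∀ m : σ →₀ ℕ, ∃ k : ℕ, r ^ k * coeff m p = 0 := by
    intro m
    have h2 : algebraMap R R' (coeff m p) = algebraMap R R' 0 := by
      rw [← coeff_map, hp, coeff_zero, map_zero]
    obtain ⟨k, hk⟩ := IsLocalization.Away.exists_of_eq r h2
    exact ⟨k, by rw [hk, mul_zero]⟩
  choose k hk using h1
  refine ⟨p.support.sup k, ?_⟩
  ext m
  rw [coeff_C_mul, coeff_zero]
  by_cases hm : m ∈ p.support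
  · have hle : k m ≤ p.support.sup k := Finset.le_sup hm
    obtain ⟨d, hd⟩ := Nat.exists_eq_add_of_le hle
    rw [hd, pow_add, mul_comm (r ^ k m), mul_assoc, hk, mul_zero]
  · rw [notMem_support_iff] at hm
    rw [hm, mul_zero]

end algebra

variable {S : Scheme.{u}} {n : ℕ} (D : IdealFam S n)

/-- restriction of polynomials along an inclusion of affine opens -/
noncomputable def polyRes {U V : S.AffineZariskiSite} (h : V ≤ U) :
    MvPolynomial (Fin (n + 1)) Γ(S, U.toOpens) →+* MvPolynomial (Fin (n + 1)) Γ(S, V.toOpens) :=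
  MvPolynomial.map (S.presheaf.map (homOfLE (Scheme.AffineZariskiSite.toOpens_mono h)).op).hom

theorem polyRes_refl (U : S.AffineZariskiSite) (a : MvPolynomial (Fin (n + 1)) Γ(S, U.toOpens)) :
    polyRes (n := n) (le_refl U) a = a := by
  have h1 : (S.presheaf.map (homOfLE (Scheme.AffineZariskiSite.toOpens_mono (le_refl U))).op).hom =
      RingHom.id _ := by
    rw [show homOfLE (Scheme.AffineZariskiSite.toOpens_mono (le_refl U)) = 𝟙 U.toOpens from
      Subsingleton.elim _ _, op_id, S.presheaf.map_id]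
    rfl
  unfold polyRes
  rw [h1]
  exact MvPolynomial.map_id a

theorem polyRes_trans {U V W : S.AffineZariskiSite} (h : V ≤ U) (h' : W ≤ V)
    (a : MvPolynomial (Fin (n + 1)) Γ(S, U.toOpens)) :
    polyRes (n := n) h' (polyRes h a) = polyRes (h'.trans h) a := by
  unfold polyRes
  rw [MvPolynomial.map_map]
  congr 2
  rw [← CommRingCat.hom_comp, ← S.presheaf.map_comp, ← op_comp]
  rfl

/-- the quotient ring over an affine open -/
abbrev Q (U : S.AffineZariskiSite) : Type u := MvPolynomial (Fin (n + 1)) Γ(S, U.toOpens) ⧸ D.I U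

/-- restriction of the quotient rings -/
noncomputable def qRes {U V : S.AffineZariskiSite} (h : V ≤ U) : Q D U →+* Q D V :=
  Ideal.Quotient.lift (D.I U) ((Ideal.Quotient.mk (D.I V)).comp (polyRes h)) (fun a ha => by
    rw [RingHom.comp_apply, Ideal.Quotient.eq_zero_iff_mem]
    exact D.res h a ha)

@[simp] theorem qRes_mk {U V : S.AffineZariskiSite} (h : V ≤ U)
    (a : MvPolynomial (Fin (n + 1)) Γ(S, U.toOpens)) :
    qRes D h (Ideal.Quotient.mk (D.I U) a) = Ideal.Quotient.mk (D.I V) (polyRes h a) := rfl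

/-- the presheaf of quotient rings on the affine opens -/
noncomputable def F : S.AffineZariskiSiteᵒᵖ ⥤ CommRingCat.{u} where
  obj U := CommRingCat.of (Q D U.unop)
  map {U V} i := CommRingCat.ofHom (qRes D i.unop.le)
  map_id U := by
    apply CommRingCat.hom_ext
    apply Ideal.Quotient.ringHom_ext
    refine RingHom.ext fun a => ?_
    change qRes D _ (Ideal.Quotient.mk _ a) = Ideal.Quotient.mk _ a
    rw [qRes_mk, polyRes_refl]
  map_comp {U V W} i j := by
    apply CommRingCat.hom_ext
    apply Ideal.Quotient.ringHom_ext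
    refine RingHom.ext fun a => ?_
    change qRes D _ (Ideal.Quotient.mk _ a) = qRes D _ (qRes D _ (Ideal.Quotient.mk _ a))
    rw [qRes_mk, qRes_mk, qRes_mk, polyRes_trans]

/-- the structure map -/
noncomputable def α : (Scheme.AffineZariskiSite.toOpensFunctor S).op ⋙ S.presheaf ⟶ F D where
  app U := CommRingCat.ofHom ((Ideal.Quotient.mk (D.I U.unop)).comp MvPolynomial.C)
  naturality {U V} i := by
    apply CommRingCat.hom_ext
    refine RingHom.ext fun a => ?_
    change Ideal.Quotient.mk (D.I V.unop) (MvPolynomial.C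
        ((S.presheaf.map (homOfLE (Scheme.AffineZariskiSite.toOpens_mono i.unop.le)).op).hom a)) =
      qRes D i.unop.le (Ideal.Quotient.mk _ (MvPolynomial.C a))
    rw [qRes_mk]
    exact congrArg (Ideal.Quotient.mk (D.I V.unop)) (MvPolynomial.map_C _ a).symm

/-- the restriction of sections to a basic open, as a ring homomorphism -/
noncomputable abbrev rho (U : S.AffineZariskiSite) (r : Γ(S, U.toOpens)) :
    Γ(S, U.toOpens) →+* Γ(S, (U.basicOpen r).toOpens) :=
  (S.presheaf.map (homOfLE (Scheme.AffineZariskiSite.toOpens_mono (U.basicOpen_le r))).op).hom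

theorem isLocalization_rho (U : S.AffineZariskiSite) (r : Γ(S, U.toOpens)) :
    letI := (rho U r).toAlgebra
    IsLocalization.Away r Γ(S, (U.basicOpen r).toOpens) :=
  U.2.isLocalization_basicOpen r

theorem coequifibered : (α D).Coequifibered := by
  refine Scheme.AffineZariskiSite.coequifibered_iff_forall_isLocalizationAway.mpr fun U r => ?_
  letI alg0 := (rho U r).toAlgebra
  have hloc : IsLocalization.Away r Γ(S, (U.basicOpen r).toOpens) := isLocalization_rho U r
  letI algQ : Algebra (Q D U) (Q D (U.basicOpen r)) :=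
    ((F D).map (homOfLE (U.basicOpen_le r)).op).hom.toAlgebra
  have halg : ∀ a : Q D U, algebraMap (Q D U) (Q D (U.basicOpen r)) a = qRes D (U.basicOpen_le r) a :=
    fun a => rfl
  have hmap : ∀ p : MvPolynomial (Fin (n + 1)) Γ(S, U.toOpens),
      polyRes (U.basicOpen_le r) p = MvPolynomial.map (algebraMap _ _) p := fun p => rfl
  change IsLocalization.Away (Ideal.Quotient.mk (D.I U) (MvPolynomial.C r)) (Q D (U.basicOpen r))
  refine IsLocalization.Away.mk _ ?_ ?_ ?_
  · rw [halg, qRes_mk, hmap, MvPolynomial.map_C]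
    exact ((IsLocalization.Away.algebraMap_isUnit r).map MvPolynomial.C).map _
  · intro s
    obtain ⟨g, rfl⟩ := Ideal.Quotient.mk_surjective s
    obtain ⟨N, g', hg'⟩ := exists_map_eq_C_pow_mul r g
    refine ⟨N, Ideal.Quotient.mk _ g', ?_⟩
    rw [halg, halg, qRes_mk, qRes_mk, hmap, hmap, hg', MvPolynomial.map_C, ← map_pow, ← map_mul,
      mul_comm]
  · intro a b hab
    obtain ⟨p, rfl⟩ := Ideal.Quotient.mk_surjective a
    obtain ⟨q, rfl⟩ := Ideal.Quotient.mk_surjective b
    rw [halg, halg, qRes_mk, qRes_mk, Ideal.Quotient.eq, ← map_sub] at hab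
    obtain ⟨N, g', hg'I, hg'⟩ := D.sat U r _ hab
    have h1 : MvPolynomial.map (algebraMap Γ(S, U.toOpens) Γ(S, (U.basicOpen r).toOpens))
        (g' - MvPolynomial.C r ^ N * (p - q)) = 0 := by
      rw [map_sub, map_mul, map_pow, MvPolynomial.map_C]
      exact sub_eq_zero.mpr hg'
    obtain ⟨M, hM⟩ := exists_C_pow_mul_eq_zero r _ h1
    refine ⟨M + N, ?_⟩
    rw [← map_pow, ← map_mul, ← map_mul, Ideal.Quotient.eq, ← mul_sub]
    have h2 : MvPolynomial.C r ^ (M + N) * (p - q) = MvPolynomial.C (r ^ M) * g' := by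
      rw [mul_sub, sub_eq_zero] at hM
      rw [hM, pow_add, map_pow, mul_assoc]
    rw [h2]
    exact Ideal.mul_mem_left _ _ hg'I

end Groth.Agent.H20.RelProj
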