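import Mathlib
import Groth.Prelude.Def_Rees

/-!
# Rees algebras: functoriality, localization, generation in degree one (helper20)
-/

set_option autoImplicit false
universe u

open Polynomial

namespace Groth.Agent.H20.RelProj.ReesAlg

variable {A B E : Type u} [CommRing A] [CommRing B] [CommRing E]

theorem map_mem_reesAlgebra (φ : A →+* B) {I : Ideal A} {J : Ideal B} (h : I ≤ J.comap φ)
    {p : A[X]} (hp : p ∈ reesAlgebra I) : p.map φ ∈ reesAlgebra J := by
  rw [mem_reesAlgebra_iff] at hp ⊢
  intro i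
  rw [coeff_map]
  have h1 : (I ^ i).map φ ≤ J ^ i := by
    rw [Ideal.map_pow]
    exact Ideal.pow_right_mono (Ideal.map_le_iff_le_comap.mpr h) i
  exact h1 (Ideal.mem_map_of_mem φ (hp i))

/-- the ring homomorphism of Rees algebras induced by a ring homomorphism -/
noncomputable def reesMap (φ : A →+* B) (I : Ideal A) (J : Ideal B) (h : I ≤ J.comap φ) :
    reesAlgebra I →+* reesAlgebra J :=
  (Polynomial.mapRingHom φ).restrict (reesAlgebra I) (reesAlgebra J)
    (fun _ hp => map_mem_reesAlgebra φ h hp)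

@[simp]
theorem coe_reesMap (φ : A →+* B) (I : Ideal A) (J : Ideal B) (h : I ≤ J.comap φ)
    (p : reesAlgebra I) : ((reesMap φ I J h p : reesAlgebra J) : B[X]) = (p : A[X]).map φ := rfl

theorem reesMap_id (I : Ideal A) (h : I ≤ I.comap (RingHom.id A)) :
    reesMap (RingHom.id A) I I h = RingHom.id _ := by
  refine RingHom.ext fun p => Subtype.ext ?_
  rw [coe_reesMap, Polynomial.map_id]
  rfl

theorem reesMap_comp (φ : A →+* B) (ψ : B →+* E) (I : Ideal A) (J : Ideal B) (K : Ideal E)
    (h : I ≤ J.comap φ) (h' : J ≤ K.comap ψ) (h'' : I ≤ K.comap (ψ.comp φ)) :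
    (reesMap ψ J K h').comp (reesMap φ I J h) = reesMap (ψ.comp φ) I K h'' := by
  refine RingHom.ext fun p => Subtype.ext ?_
  rw [RingHom.comp_apply, coe_reesMap, coe_reesMap, coe_reesMap, Polynomial.map_map]

theorem reesMap_algebraMap (φ : A →+* B) (I : Ideal A) (J : Ideal B) (h : I ≤ J.comap φ) (a : A) :
    reesMap φ I J h (algebraMap A (reesAlgebra I) a) = algebraMap B (reesAlgebra J) (φ a) := by
  apply Subtype.ext
  rw [coe_reesMap]
  change (algebraMap A A[X] a).map φ = algebraMap B B[X] (φ a)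
  rw [Polynomial.algebraMap_apply, Polynomial.algebraMap_apply, Algebra.algebraMap_self,
    Algebra.algebraMap_self, RingHom.id_apply, RingHom.id_apply, Polynomial.map_C]

theorem reesMap_mem_deg (φ : A →+* B) (I : Ideal A) (J : Ideal B) (h : I ≤ J.comap φ) {d : ℕ}
    {p : reesAlgebra I} (hp : p ∈ Rees.deg (reesAlgebra I) d) :
    reesMap φ I J h p ∈ Rees.deg (reesAlgebra J) d := by
  rw [Rees.mem_deg_iff] at hp ⊢
  intro m hm
  rw [coe_reesMap, coeff_map, hp m hm, map_zero]

theorem algebraMap_mem_deg_zero (I : Ideal A) (a : A) :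
    algebraMap A (reesAlgebra I) a ∈ Rees.deg (reesAlgebra I) 0 := by
  rw [Rees.mem_deg_iff]
  intro m hm
  change (algebraMap A A[X] a).coeff m = 0
  rw [Polynomial.algebraMap_apply, Algebra.algebraMap_self, RingHom.id_apply, coeff_C, if_neg hm]

/-- the element `a t` of degree one, for `a ∈ I` -/
noncomputable def mon1 (I : Ideal A) (a : A) (ha : a ∈ I) : reesAlgebra I :=
  ⟨monomial 1 a, reesAlgebra.monomial_mem.mpr (by rwa [pow_one])⟩

theorem mon1_mem_deg (I : Ideal A) (a : A) (ha : a ∈ I) :
    mon1 I a ha ∈ Rees.deg (reesAlgebra I) 1 := by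
  rw [Rees.mem_deg_iff]
  intro m hm
  change (monomial 1 a).coeff m = 0
  rw [coeff_monomial, if_neg (Ne.symm hm)]

theorem exists_eq_mon1_of_mem_deg_one (I : Ideal A) {p : reesAlgebra I}
    (hp : p ∈ Rees.deg (reesAlgebra I) 1) : ∃ (a : A) (ha : a ∈ I), p = mon1 I a ha := by
  rw [Rees.mem_deg_iff] at hp
  have h1 : (p : A[X]).coeff 1 ∈ I := by
    have := (mem_reesAlgebra_iff I _).mp p.2 1
    rwa [pow_one] at this
  refine ⟨_, h1, Subtype.ext ?_⟩
  change (p : A[X]) = monomial 1 ((p : A[X]).coeff 1)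
  ext m
  rw [coeff_monomial]
  split_ifs with hm
  · rw [hm]
  · exact hp m (Ne.symm hm)

/-- the element `a t^d` of degree `d`, for `a ∈ I^d` -/
noncomputable def mon (I : Ideal A) (d : ℕ) (a : A) (ha : a ∈ I ^ d) : reesAlgebra I :=
  ⟨monomial d a, reesAlgebra.monomial_mem.mpr ha⟩

theorem mon_mem_deg (I : Ideal A) (d : ℕ) (a : A) (ha : a ∈ I ^ d) :
    mon I d a ha ∈ Rees.deg (reesAlgebra I) d := by
  rw [Rees.mem_deg_iff]
  intro m hm
  change (monomial d a).coeff m = 0
  rw [coeff_monomial, if_neg (Ne.symm hm)]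

theorem exists_eq_mon_of_mem_deg (I : Ideal A) {d : ℕ} {p : reesAlgebra I}
    (hp : p ∈ Rees.deg (reesAlgebra I) d) : ∃ (a : A) (ha : a ∈ I ^ d), p = mon I d a ha := by
  rw [Rees.mem_deg_iff] at hp
  refine ⟨_, (mem_reesAlgebra_iff I _).mp p.2 d, Subtype.ext ?_⟩
  change (p : A[X]) = monomial d ((p : A[X]).coeff d)
  ext m
  rw [coeff_monomial]
  split_ifs with hm
  · rw [hm]
  · exact hp m (Ne.symm hm)

/-- the irrelevant ideal of the Rees algebra of an extended ideal is generated by the image of the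
irrelevant ideal -/
theorem mem_map_irrelevant (φ : A →+* B) (I : Ideal A) (J : Ideal B) (h : I ≤ J.comap φ)
    (hJ : I.map φ = J) {d : ℕ} (hd : 0 < d) {x : reesAlgebra J}
    (hx : x ∈ Rees.deg (reesAlgebra J) d) :
    x ∈ Ideal.map (reesMap φ I J h)
      (HomogeneousIdeal.irrelevant (Rees.deg (reesAlgebra I))).toIdeal := by
  obtain ⟨c, hc, rfl⟩ := exists_eq_mon_of_mem_deg J hx
  have hc' : c ∈ Ideal.map φ (I ^ d) := by
    rw [Ideal.map_pow, hJ]
    exact hc
  have key : ∀ c (_ : c ∈ Ideal.map φ (I ^ d)), ∃ hc : c ∈ J ^ d, mon J d c hc ∈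
      Ideal.map (reesMap φ I J h)
        (HomogeneousIdeal.irrelevant (Rees.deg (reesAlgebra I))).toIdeal := by
    intro c hc
    have hJd : Ideal.map φ (I ^ d) = J ^ d := by rw [Ideal.map_pow, hJ]
    induction hc using Submodule.span_induction with
    | mem c hc =>
      obtain ⟨a, ha, rfl⟩ := hc
      refine ⟨hJd ▸ Ideal.mem_map_of_mem φ ha, ?_⟩
      have h1 : mon J d (φ a) (hJd ▸ Ideal.mem_map_of_mem φ ha) = reesMap φ I J h (mon I d a ha) := by
        apply Subtype.ext
        rw [coe_reesMap]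
        change monomial d (φ a) = (monomial d a).map φ
        rw [map_monomial]
      rw [h1]
      exact Ideal.mem_map_of_mem _
        (HomogeneousIdeal.mem_irrelevant_of_mem _ hd (mon_mem_deg I d a ha))
    | zero =>
      refine ⟨zero_mem _, ?_⟩
      have h1 : mon J d 0 (zero_mem _) = 0 := by
        apply Subtype.ext
        change monomial d (0 : B) = 0
        rw [map_zero]
      rw [h1]
      exact zero_mem _
    | add c c' _ _ hc hc' =>
      obtain ⟨h1, h2⟩ := hc
      obtain ⟨h1', h2'⟩ := hc'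
      refine ⟨add_mem h1 h1', ?_⟩
      have h3 : mon J d (c + c') (add_mem h1 h1') = mon J d c h1 + mon J d c' h1' := by
        apply Subtype.ext
        change monomial d (c + c') = monomial d c + monomial d c'
        rw [map_add]
      rw [h3]
      exact add_mem h2 h2'
    | smul β c _ hc =>
      obtain ⟨h1, h2⟩ := hc
      refine ⟨Ideal.mul_mem_left _ _ h1, ?_⟩
      have h3 : mon J d (β • c) (Ideal.mul_mem_left _ _ h1) =
          algebraMap B (reesAlgebra J) β * mon J d c h1 := by
        apply Subtype.ext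
        rw [Subalgebra.coe_mul]
        change monomial d (β • c) = algebraMap B B[X] β * monomial d c
        rw [Polynomial.algebraMap_apply, Algebra.algebraMap_self, RingHom.id_apply, C_mul_monomial,
          smul_eq_mul]
      rw [h3]
      exact Ideal.mul_mem_left _ _ h2
  obtain ⟨_, h2⟩ := key c hc'
  exact h2

/-- The Rees algebra is generated by its parts of degree zero and one. -/
theorem closure_deg_zero_one_eq_top (I : Ideal A) :
    Subring.closure ((Rees.deg (reesAlgebra I) 0 : Set (reesAlgebra I)) ∪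
      (Rees.deg (reesAlgebra I) 1 : Set (reesAlgebra I))) = ⊤ := by
  rw [eq_top_iff]
  rintro ⟨p, hp⟩ -
  have hp' := hp
  rw [← adjoin_monomial_eq_reesAlgebra] at hp'
  have key : ∀ q (_ : q ∈ Algebra.adjoin A (↑(Submodule.map (monomial 1 : A →ₗ[A] A[X]) I) : Set A[X])),
      ∃ hq' : q ∈ reesAlgebra I, (⟨q, hq'⟩ : reesAlgebra I) ∈
        Subring.closure ((Rees.deg (reesAlgebra I) 0 : Set (reesAlgebra I)) ∪
          (Rees.deg (reesAlgebra I) 1 : Set (reesAlgebra I))) := by
    intro q hq
    induction hq using Algebra.adjoin_induction with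
    | mem x hx =>
      obtain ⟨a, ha, rfl⟩ := hx
      exact ⟨reesAlgebra.monomial_mem.mpr (by rwa [pow_one]),
        Subring.subset_closure (Or.inr (mon1_mem_deg I a ha))⟩
    | algebraMap r =>
      exact ⟨(algebraMap A (reesAlgebra I) r).2,
        Subring.subset_closure (Or.inl (algebraMap_mem_deg_zero I r))⟩
    | add x y _ _ hx hy =>
      obtain ⟨hx', hx⟩ := hx
      obtain ⟨hy', hy⟩ := hy
      refine ⟨add_mem hx' hy', ?_⟩
      rw [← AddMemClass.mk_add_mk (reesAlgebra I) x y hx' hy']
      exact Subring.add_mem _ hx hy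
    | mul x y _ _ hx hy =>
      obtain ⟨hx', hx⟩ := hx
      obtain ⟨hy', hy⟩ := hy
      refine ⟨mul_mem hx' hy', ?_⟩
      rw [← MulMemClass.mk_mul_mk (reesAlgebra I) x y hx' hy']
      exact Subring.mul_mem _ hx hy
  obtain ⟨_, h⟩ := key p hp'
  exact h

section loc

variable [Algebra A B] (s : A) [IsLocalization.Away s B] (I : Ideal A)

theorem le_comap_map : I ≤ (I.map (algebraMap A B)).comap (algebraMap A B) := Ideal.le_comap_map

/-- elements of `(I B)^k` are fractions with numerator in `I^k` -/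
theorem exists_mul_pow_mem (k : ℕ) (c : B) (hc : c ∈ (I.map (algebraMap A B)) ^ k) :
    ∃ (N : ℕ) (a : A), a ∈ I ^ k ∧ algebraMap A B a = algebraMap A B s ^ N * c := by
  rw [← Ideal.map_pow] at hc
  obtain ⟨⟨⟨a, ha⟩, ⟨t, ht⟩⟩, h⟩ :=
    (IsLocalization.mem_map_algebraMap_iff (Submonoid.powers s) B).mp hc
  obtain ⟨N, rfl⟩ := ht
  refine ⟨N, a, ha, ?_⟩
  simp only at h
  rw [← h, map_pow, mul_comm]

theorem exists_common (p : B[X]) (hp : p ∈ reesAlgebra (I.map (algebraMap A B))) :
    ∃ (N : ℕ) (q : A[X]), q ∈ reesAlgebra I ∧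
      q.map (algebraMap A B) = C (algebraMap A B s ^ N) * p := by
  classical
  rw [mem_reesAlgebra_iff] at hp
  choose N a ha hN using fun k => exists_mul_pow_mem s I k (p.coeff k) (hp k)
  set M := p.support.sup N with hM
  refine ⟨M, ∑ k ∈ p.support, monomial k (s ^ (M - N k) * a k), ?_, ?_⟩
  · refine Subalgebra.sum_mem _ fun k _ => ?_
    exact reesAlgebra.monomial_mem.mpr (Ideal.mul_mem_left _ _ (ha k))
  · rw [Polynomial.map_sum]
    conv_rhs => rw [← p.sum_monomial_eq, Polynomial.sum_def, Finset.mul_sum]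
    refine Finset.sum_congr rfl fun k hk => ?_
    rw [map_monomial, C_mul_monomial, map_mul, hN k, map_pow, ← mul_assoc, ← pow_add,
      Nat.sub_add_cancel (Finset.le_sup hk)]

theorem exists_pow_mul_eq_zero (p : A[X]) (hp : p.map (algebraMap A B) = 0) :
    ∃ N : ℕ, C (s ^ N) * p = 0 := by
  classical
  have h1 : ∀ k, ∃ N : ℕ, s ^ N * p.coeff k = 0 := by
    intro k
    have h2 : algebraMap A B (p.coeff k) = 0 := by
      rw [← coeff_map, hp, coeff_zero]
    rw [IsLocalization.map_eq_zero_iff (Submonoid.powers s)] at h2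
    obtain ⟨⟨_, N, rfl⟩, hN⟩ := h2
    exact ⟨N, hN⟩
  choose N hN using h1
  refine ⟨p.support.sup N, ?_⟩
  ext k
  rw [coeff_C_mul, coeff_zero]
  by_cases hk : k ∈ p.support
  · rw [← Nat.sub_add_cancel (Finset.le_sup (f := N) hk), pow_add, mul_assoc, hN k, mul_zero]
  · rw [notMem_support_iff.mp hk, mul_zero]

/-- The Rees algebra of the extended ideal in a localization `A_s` is the localization of the Rees algebra at `s`. -/
theorem isLocalization_reesMap :
    letI := (reesMap (algebraMap A B) I (I.map (algebraMap A B)) Ideal.le_comap_map).toAlgebra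
    IsLocalization.Away (algebraMap A (reesAlgebra I) s) (reesAlgebra (I.map (algebraMap A B))) := by
  letI := (reesMap (algebraMap A B) I (I.map (algebraMap A B)) Ideal.le_comap_map).toAlgebra
  have halg : ∀ x : reesAlgebra I, algebraMap (reesAlgebra I) (reesAlgebra (I.map (algebraMap A B))) x =
      reesMap (algebraMap A B) I (I.map (algebraMap A B)) Ideal.le_comap_map x := fun _ => rfl
  have hs : ∀ N : ℕ, ((algebraMap A (reesAlgebra I) s ^ N : reesAlgebra I) : A[X]) = C (s ^ N) := by
    intro N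
    rw [← map_pow]
    change algebraMap A A[X] (s ^ N) = _
    rw [Polynomial.algebraMap_apply, Algebra.algebraMap_self, RingHom.id_apply]
  refine IsLocalization.Away.mk _ ?_ ?_ ?_
  · rw [halg, reesMap_algebraMap]
    exact (IsLocalization.Away.algebraMap_isUnit s).map _
  · rintro ⟨p, hp⟩
    obtain ⟨N, q, hq, hqp⟩ := exists_common s I p hp
    refine ⟨N, ⟨q, hq⟩, ?_⟩
    rw [halg, halg, ← map_pow]
    apply Subtype.ext
    rw [Subalgebra.coe_mul, coe_reesMap, coe_reesMap, hs, Polynomial.map_C, map_pow]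
    change _ = q.map _
    rw [hqp, mul_comm]
  · intro a b hab
    have h1 : ((a : A[X]) - (b : A[X])).map (algebraMap A B) = 0 := by
      rw [Polynomial.map_sub, sub_eq_zero]
      rw [halg, halg] at hab
      exact congrArg Subtype.val hab
    obtain ⟨N, hN⟩ := exists_pow_mul_eq_zero s _ h1
    refine ⟨N, Subtype.ext ?_⟩
    rw [Subalgebra.coe_mul, Subalgebra.coe_mul, hs]
    rwa [mul_sub, sub_eq_zero] at hN

/-- variant of `isLocalization_reesMap` with the extended ideal given up to equality -/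
theorem isLocalization_reesMap' (J : Ideal B) (hJ : I.map (algebraMap A B) = J)
    (h : I ≤ J.comap (algebraMap A B)) :
    letI := (reesMap (algebraMap A B) I J h).toAlgebra
    IsLocalization.Away (algebraMap A (reesAlgebra I) s) (reesAlgebra J) := by
  subst hJ
  exact isLocalization_reesMap s I

end loc

end Groth.Agent.H20.RelProj.ReesAlg
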