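import Groth.Agent.H20.RelProj.ReesAlg
import Groth.Agent.H20.RelProj.GrAffAlg

/-!
# The quasi-coherent graded algebra `f_* (⊕ 𝓘^d)` for an affine morphism `f : X ⟶ Y` (helper20)

For an affine morphism `f : X ⟶ Y` and an ideal sheaf `𝓘` on `X` we build the quasi-coherent graded
`O_Y`-algebra whose sections over an affine open `U` of `Y` are the Rees algebra of the ideal `𝓘(f⁻¹ U)` of
`Γ(X, f⁻¹ U)`.
-/

set_option autoImplicit false
universe u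

open CategoryTheory CategoryTheory.Limits AlgebraicGeometry TopologicalSpace Opposite Polynomial

namespace Groth.Agent.H20.RelProj.ReesSheaf

open Groth.Agent.H20.RelProj.ReesAlg

variable {X Y : Scheme.{u}} (f : X ⟶ Y) [IsAffineHom f] (𝓘 : X.IdealSheafData)

/-- the affine open `f⁻¹ U` of `X` -/
noncomputable abbrev pre (U : Y.AffineZariskiSite) : X.affineOpens :=
  ⟨f ⁻¹ᵁ U.toOpens, U.2.preimage f⟩

theorem pre_le {U V : Y.AffineZariskiSite} (h : V ≤ U) : f ⁻¹ᵁ V.toOpens ≤ f ⁻¹ᵁ U.toOpens :=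
  f.preimage_mono (Scheme.AffineZariskiSite.toOpens_mono h)

/-- the ideal over `f⁻¹ U` -/
noncomputable abbrev I (U : Y.AffineZariskiSite) : Ideal Γ(X, f ⁻¹ᵁ U.toOpens) := 𝓘.ideal (pre f U)

/-- restriction of sections of `O_X` -/
noncomputable abbrev ρ {U V : Y.AffineZariskiSite} (h : V ≤ U) :
    Γ(X, f ⁻¹ᵁ U.toOpens) →+* Γ(X, f ⁻¹ᵁ V.toOpens) :=
  (X.presheaf.map (homOfLE (pre_le f h)).op).hom

theorem I_le {U V : Y.AffineZariskiSite} (h : V ≤ U) : I f 𝓘 U ≤ (I f 𝓘 V).comap (ρ f h) :=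
  𝓘.ideal_le_comap_ideal (U := pre f V) (V := pre f U) (pre_le f h)

theorem I_map {U V : Y.AffineZariskiSite} (h : V ≤ U) : (I f 𝓘 U).map (ρ f h) = I f 𝓘 V :=
  𝓘.map_ideal (U := pre f V) (V := pre f U) (pre_le f h)

theorem ρ_refl (U : Y.AffineZariskiSite) : ρ f (le_refl U) = RingHom.id _ := by
  unfold ρ
  rw [show homOfLE (pre_le f (le_refl U)) = 𝟙 (f ⁻¹ᵁ U.toOpens) from Subsingleton.elim _ _, op_id,
    X.presheaf.map_id]
  rfl

theorem ρ_trans {U V W : Y.AffineZariskiSite} (h : V ≤ U) (h' : W ≤ V) :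
    (ρ f h').comp (ρ f h) = ρ f (h'.trans h) := by
  unfold ρ
  rw [← CommRingCat.hom_comp, ← X.presheaf.map_comp, ← op_comp]
  rfl

/-- the Rees algebra over an affine open of `Y` -/
abbrev R (U : Y.AffineZariskiSite) : Type u := reesAlgebra (I f 𝓘 U)

/-- restriction of Rees algebras -/
noncomputable def rRes {U V : Y.AffineZariskiSite} (h : V ≤ U) : R f 𝓘 U →+* R f 𝓘 V :=
  reesMap (ρ f h) (I f 𝓘 U) (I f 𝓘 V) (I_le f 𝓘 h)

theorem coe_rRes {U V : Y.AffineZariskiSite} (h : V ≤ U) (p : R f 𝓘 U) :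
    ((rRes f 𝓘 h p : R f 𝓘 V) : Γ(X, f ⁻¹ᵁ V.toOpens)[X]) =
      (p : Γ(X, f ⁻¹ᵁ U.toOpens)[X]).map (ρ f h) := rfl

/-- the presheaf of Rees algebras on the affine opens of `Y` -/
noncomputable def F : Y.AffineZariskiSiteᵒᵖ ⥤ CommRingCat.{u} where
  obj U := CommRingCat.of (R f 𝓘 U.unop)
  map {U V} i := CommRingCat.ofHom (rRes f 𝓘 i.unop.le)
  map_id U := by
    apply CommRingCat.hom_ext
    refine RingHom.ext fun p => Subtype.ext ?_
    change ((rRes f 𝓘 _ p : R f 𝓘 U.unop) : Γ(X, f ⁻¹ᵁ U.unop.toOpens)[X]) = _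
    rw [coe_rRes, ρ_refl, Polynomial.map_id]
    rfl
  map_comp {U V W} i j := by
    apply CommRingCat.hom_ext
    refine RingHom.ext fun p => Subtype.ext ?_
    change ((rRes f 𝓘 _ p : R f 𝓘 W.unop) : Γ(X, f ⁻¹ᵁ W.unop.toOpens)[X]) =
      ((rRes f 𝓘 _ (rRes f 𝓘 _ p) : R f 𝓘 W.unop) : Γ(X, f ⁻¹ᵁ W.unop.toOpens)[X])
    rw [coe_rRes, coe_rRes, coe_rRes, Polynomial.map_map, ρ_trans]

/-- the structure map of the presheaf of Rees algebras -/
noncomputable def α : (Scheme.AffineZariskiSite.toOpensFunctor Y).op ⋙ Y.presheaf ⟶ F f 𝓘 where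
  app U := CommRingCat.ofHom
    ((algebraMap Γ(X, f ⁻¹ᵁ U.unop.toOpens) (R f 𝓘 U.unop)).comp (f.app U.unop.toOpens).hom)
  naturality {U V} i := by
    apply CommRingCat.hom_ext
    refine RingHom.ext fun a => ?_
    change algebraMap Γ(X, f ⁻¹ᵁ V.unop.toOpens) (R f 𝓘 V.unop) ((f.app V.unop.toOpens).hom
        ((Y.presheaf.map (homOfLE (Scheme.AffineZariskiSite.toOpens_mono i.unop.le)).op).hom a)) =
      rRes f 𝓘 i.unop.le (algebraMap _ (R f 𝓘 U.unop) ((f.app U.unop.toOpens).hom a))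
    unfold rRes
    rw [reesMap_algebraMap]
    congr 1
    have h := f.naturality (homOfLE (Scheme.AffineZariskiSite.toOpens_mono i.unop.le)).op
    exact congr($h a)

theorem α_app_apply (U : Y.AffineZariskiSite) (r : Γ(Y, U.toOpens)) :
    ((α f 𝓘).app (op U)).hom r =
      algebraMap Γ(X, f ⁻¹ᵁ U.toOpens) (R f 𝓘 U) ((f.app U.toOpens).hom r) := rfl

theorem isLocalization_ρ (U : Y.AffineZariskiSite) (r : Γ(Y, U.toOpens)) :
    letI := (ρ f (U.basicOpen_le r)).toAlgebra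
    IsLocalization.Away ((f.app U.toOpens).hom r) Γ(X, f ⁻¹ᵁ (U.basicOpen r).toOpens) :=
  (pre f U).2.isLocalization_of_eq_basicOpen ((f.app U.toOpens).hom r)
    (homOfLE (pre_le f (U.basicOpen_le r))) (f.preimage_basicOpen r)

theorem coequifibered : (α f 𝓘).Coequifibered := by
  refine Scheme.AffineZariskiSite.coequifibered_iff_forall_isLocalizationAway.mpr fun U r => ?_
  letI alg0 := (ρ f (U.basicOpen_le r)).toAlgebra
  have hloc : IsLocalization.Away ((f.app U.toOpens).hom r) Γ(X, f ⁻¹ᵁ (U.basicOpen r).toOpens) :=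
    isLocalization_ρ f U r
  have h1 := isLocalization_reesMap' ((f.app U.toOpens).hom r) (I f 𝓘 U) (I f 𝓘 (U.basicOpen r))
    (I_map f 𝓘 (U.basicOpen_le r)) (I_le f 𝓘 (U.basicOpen_le r))
  exact h1

section grading

/-- the grading of the Rees algebra over an affine open -/
noncomputable abbrev G (U : Y.AffineZariskiSite) : ℕ → Submodule Γ(X, f ⁻¹ᵁ U.toOpens) (R f 𝓘 U) :=
  Rees.deg (reesAlgebra (I f 𝓘 U))

theorem G_res {U V : Y.AffineZariskiSite} (i : V ⟶ U) (d : ℕ) (x : R f 𝓘 U) (hx : x ∈ G f 𝓘 U d) :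
    rRes f 𝓘 i.le x ∈ G f 𝓘 V d :=
  reesMap_mem_deg _ _ _ _ hx

theorem G_str (U : Y.AffineZariskiSite) (r : Γ(Y, U.toOpens)) :
    ((α f 𝓘).app (op U)).hom r ∈ G f 𝓘 U 0 :=
  algebraMap_mem_deg_zero _ _

/-- The quasi-coherent graded algebra `f_*(⊕ 𝓘^d)`. -/
noncomputable def qcGrAlg : RelProj.QCGrAlg Y :=
  @GrAffAlg.grAlg Y (F f 𝓘) (α f 𝓘) (coequifibered f 𝓘)
    (fun U => Submodule Γ(X, f ⁻¹ᵁ U.toOpens) (R f 𝓘 U))
    (fun U => inferInstanceAs (SetLike (Submodule Γ(X, f ⁻¹ᵁ U.toOpens) (R f 𝓘 U)) (R f 𝓘 U)))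
    (fun U => inferInstanceAs (AddSubgroupClass (Submodule Γ(X, f ⁻¹ᵁ U.toOpens) (R f 𝓘 U)) (R f 𝓘 U)))
    (G f 𝓘) (fun U => inferInstanceAs (GradedAlgebra (Rees.deg (reesAlgebra (I f 𝓘 U)))))
    (fun i d x hx => G_res f 𝓘 i d x hx) (fun U r => G_str f 𝓘 U r)

/-- sections of `qcGrAlg` over an affine open are the Rees algebra -/
noncomputable def gam (U : Y.Opens) (hU : IsAffineOpen U) :
    (qcGrAlg f 𝓘).presheaf.obj (op U) ≃+* R f 𝓘 ⟨U, hU⟩ :=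
  GrAffAlg.gamEquiv (coequifibered f 𝓘) U hU

theorem mem_deg_iff {U : Y.Opens} {hU : IsAffineOpen U} {d : ℕ}
    {a : (qcGrAlg f 𝓘).presheaf.obj (op U)} :
    a ∈ (qcGrAlg f 𝓘).deg U hU d ↔ gam f 𝓘 U hU a ∈ G f 𝓘 ⟨U, hU⟩ d := Iff.rfl

theorem gam_res {U V : Y.AffineZariskiSite} (i : V ≤ U)
    (x : (qcGrAlg f 𝓘).presheaf.obj (op U.toOpens)) :
    gam f 𝓘 V.1 V.2 (((qcGrAlg f 𝓘).presheaf.map
        (homOfLE (Scheme.AffineZariskiSite.toOpens_mono i)).op).hom x) =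
      rRes f 𝓘 i (gam f 𝓘 U.1 U.2 x) :=
  GrAffAlg.gamEquiv_res (coequifibered f 𝓘) (homOfLE i) x

theorem gam_str (U : Y.Opens) (hU : IsAffineOpen U) (r : Γ(Y, U)) :
    gam f 𝓘 U hU (((qcGrAlg f 𝓘).str.app (op U)).hom r) =
      algebraMap Γ(X, f ⁻¹ᵁ U) (R f 𝓘 ⟨U, hU⟩) ((f.app U).hom r) :=
  GrAffAlg.gamEquiv_str (coequifibered f 𝓘) U hU r

theorem isGenDegOne : (qcGrAlg f 𝓘).IsGenDegOne := by
  intro U hU
  rw [eq_top_iff]
  rintro x -
  obtain ⟨y, rfl⟩ : ∃ y, x = (gam f 𝓘 U hU).symm y :=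
    ⟨gam f 𝓘 U hU x, ((gam f 𝓘 U hU).symm_apply_apply x).symm⟩
  have hy : y ∈ Subring.closure ((Rees.deg (reesAlgebra (I f 𝓘 ⟨U, hU⟩)) 0 : Set (R f 𝓘 ⟨U, hU⟩)) ∪
      (Rees.deg (reesAlgebra (I f 𝓘 ⟨U, hU⟩)) 1 : Set (R f 𝓘 ⟨U, hU⟩))) := by
    rw [closure_deg_zero_one_eq_top]
    trivial
  induction hy using Subring.closure_induction with
  | mem z hz =>
    apply Subring.subset_closure
    rcases hz with hz | hz
    · left
      change _ ∈ (qcGrAlg f 𝓘).deg U hU 0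
      rw [mem_deg_iff, RingEquiv.apply_symm_apply]
      exact hz
    · right
      change _ ∈ (qcGrAlg f 𝓘).deg U hU 1
      rw [mem_deg_iff, RingEquiv.apply_symm_apply]
      exact hz
  | zero => rw [map_zero]; exact Subring.zero_mem _
  | one => rw [map_one]; exact Subring.one_mem _
  | add a b _ _ ha hb => rw [map_add]; exact Subring.add_mem _ ha hb
  | neg a _ ha => rw [map_neg]; exact Subring.neg_mem _ ha
  | mul a b _ _ ha hb => rw [map_mul]; exact Subring.mul_mem _ ha hb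

theorem isFTDeg_one [IsFinite f] (h𝓘 : ∀ U : X.affineOpens, (𝓘.ideal U).FG) :
    (qcGrAlg f 𝓘).IsFTDeg 1 := by
  classical
  intro U hU
  letI algA : Algebra Γ(Y, U) Γ(X, f ⁻¹ᵁ U) := (f.app U).hom.toAlgebra
  have hfin : Module.Finite Γ(Y, U) Γ(X, f ⁻¹ᵁ U) := IsFinite.finite_app f U hU
  obtain ⟨t, ht⟩ := hfin.fg_top
  obtain ⟨s, hs⟩ := h𝓘 (pre f ⟨U, hU⟩)
  have hsI : ∀ σ ∈ s, σ ∈ I f 𝓘 ⟨U, hU⟩ := by
    intro σ hσ
    have h0 : σ ∈ Ideal.span (s : Set Γ(X, f ⁻¹ᵁ U)) := Ideal.subset_span hσ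
    rw [hs] at h0
    exact h0
  let μ : Γ(X, f ⁻¹ᵁ U) → R f 𝓘 ⟨U, hU⟩ := fun a =>
    if h : a ∈ I f 𝓘 ⟨U, hU⟩ then mon1 _ a h else 0
  have hμ : ∀ a (h : a ∈ I f 𝓘 ⟨U, hU⟩), μ a = mon1 _ a h := fun a h => dif_pos h
  let e : Γ(X, f ⁻¹ᵁ U) × Γ(X, f ⁻¹ᵁ U) → (qcGrAlg f 𝓘).presheaf.obj (op U) :=
    fun p => (gam f 𝓘 U hU).symm (μ (p.1 * p.2))
  refine ⟨(t ×ˢ s).image e, ?_, ?_⟩
  · intro y hy
    obtain ⟨p, hp, rfl⟩ := Finset.mem_image.mp (Finset.mem_coe.mp hy)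
    have hp2 := hsI p.2 (Finset.mem_product.mp hp).2
    change e p ∈ (qcGrAlg f 𝓘).deg U hU 1
    rw [mem_deg_iff, RingEquiv.apply_symm_apply, hμ _ (Ideal.mul_mem_left _ _ hp2)]
    exact mon1_mem_deg _ _ _
  · intro x hx
    rw [mem_deg_iff] at hx
    obtain ⟨a, ha, hxa⟩ := exists_eq_mon1_of_mem_deg_one _ hx
    have ha' : a ∈ Submodule.span Γ(X, f ⁻¹ᵁ U) (s : Set Γ(X, f ⁻¹ᵁ U)) := by
      have h0 : a ∈ 𝓘.ideal (pre f ⟨U, hU⟩) := ha
      rw [← hs] at h0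
      exact h0
    obtain ⟨c, -, hc⟩ := Submodule.mem_span_finset.mp ha'
    have hd : ∀ σ, ∃ d : Γ(X, f ⁻¹ᵁ U) → Γ(Y, U), ∑ τ ∈ t, d τ • τ = c σ := by
      intro σ
      have h1 : c σ ∈ Submodule.span Γ(Y, U) (t : Set Γ(X, f ⁻¹ᵁ U)) := by
        rw [ht]
        trivial
      obtain ⟨d, -, hd⟩ := Submodule.mem_span_finset.mp h1
      exact ⟨d, hd⟩
    choose d hd using hd
    have h1 : x = ∑ p ∈ t ×ˢ s, ((qcGrAlg f 𝓘).str.app (op U)).hom (d p.2 p.1) * e p := by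
      apply (gam f 𝓘 U hU).injective
      rw [map_sum, hxa]
      apply Subtype.ext
      rw [AddSubmonoidClass.coe_finset_sum]
      have h2 : ∀ p ∈ t ×ˢ s, ((gam f 𝓘 U hU (((qcGrAlg f 𝓘).str.app (op U)).hom (d p.2 p.1) * e p) :
          R f 𝓘 ⟨U, hU⟩) : Γ(X, f ⁻¹ᵁ U)[X]) =
          monomial 1 ((f.app U).hom (d p.2 p.1) * (p.1 * p.2)) := by
        intro p hp
        have hp2 := hsI p.2 (Finset.mem_product.mp hp).2
        rw [map_mul, gam_str, RingEquiv.apply_symm_apply, hμ _ (Ideal.mul_mem_left _ _ hp2),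
          Subalgebra.coe_mul]
        change algebraMap Γ(X, f ⁻¹ᵁ U) Γ(X, f ⁻¹ᵁ U)[X] _ * monomial 1 (p.1 * p.2) = _
        rw [Polynomial.algebraMap_apply, Algebra.algebraMap_self, RingHom.id_apply, C_mul_monomial]
      rw [Finset.sum_congr rfl h2, ← map_sum]
      change monomial 1 a = _
      congr 1
      rw [Finset.sum_product_right, ← hc]
      refine Finset.sum_congr rfl fun σ _ => ?_
      rw [← hd σ, Finset.sum_smul]
      refine Finset.sum_congr rfl fun τ _ => ?_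
      rw [smul_eq_mul, Algebra.smul_def, mul_assoc]
      rfl
    refine ⟨fun y => ∑ p ∈ (t ×ˢ s).filter (fun p => e p = y), d p.2 p.1, ?_⟩
    rw [h1, Finset.sum_image']
    intro p _
    rw [map_sum, Finset.sum_mul]
    refine Finset.sum_congr rfl fun q hq => ?_
    rw [(Finset.mem_filter.mp hq).2]

end grading

end Groth.Agent.H20.RelProj.ReesSheaf
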